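import Cfsg.Agent.Base
import Cfsg.Agent.Lib.Char.Rep
import Cfsg.Agent.Lib.CrossChar.Triv

/-! Weight spaces of finite abelian groups of operators in complex representations. -/

set_option autoImplicit false
set_option linter.unusedSectionVars false

namespace H20.MR

open Module
open scoped Classical

variable {G M : Type*} [Group G] [AddCommGroup M] [Module ℂ M] (ρ : Representation ℂ G M)

section Basic

theorem rho_mul (g h : G) (v : M) : ρ (g * h) v = ρ g (ρ h v) := by rw [map_mul]; rfl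

theorem rho_one (v : M) : ρ 1 v = v := by rw [map_one]; rfl

theorem rho_inv_self (g : G) (v : M) : ρ g⁻¹ (ρ g v) = v := by
  rw [← rho_mul, inv_mul_cancel, rho_one]

theorem rho_self_inv (g : G) (v : M) : ρ g (ρ g⁻¹ v) = v := by
  rw [← rho_mul, mul_inv_cancel, rho_one]

theorem rho_injective (g : G) : Function.Injective (ρ g) :=
  Function.LeftInverse.injective (rho_inv_self ρ g)

theorem rho_ne_zero (g : G) {v : M} (hv : v ≠ 0) : ρ g v ≠ 0 :=
  fun h => hv (rho_injective ρ g (by rw [h, map_zero]))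

theorem finrank_le_of_maps [FiniteDimensional ℂ M] (g : G) {N N' : Submodule ℂ M}
    (h : ∀ v ∈ N, ρ g v ∈ N') : finrank ℂ N ≤ finrank ℂ N' :=
  LinearMap.finrank_le_finrank_of_injective (f := (ρ g).restrict h) fun _ _ e =>
    Subtype.ext (rho_injective ρ g (congrArg Subtype.val e))

/-- The restriction of a representation to a subspace invariant under the image of `φ`. -/
def res {H : Type*} [Group H] (φ : H →* G) (N : Submodule ℂ M)
    (hN : ∀ h, ∀ v ∈ N, ρ (φ h) v ∈ N) : Representation ℂ H N where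
  toFun h := (ρ (φ h)).restrict (hN h)
  map_one' := LinearMap.ext fun v => Subtype.ext (by simp)
  map_mul' a b := LinearMap.ext fun v => Subtype.ext (by simp)

theorem res_apply {H : Type*} [Group H] (φ : H →* G) (N : Submodule ℂ M)
    (hN : ∀ h, ∀ v ∈ N, ρ (φ h) v ∈ N) (h : H) (v : N) : (res ρ φ N hN h v : M) = ρ (φ h) v := rfl

/-- Common eigenvectors with distinct systems of eigenvalues are independent. -/
theorem linInd_of_eigen {X ι : Type*} (T : X → End ℂ M) (φ : ι → X → ℂ) (hφ : Function.Injective φ)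
    (v : ι → M) (h0 : ∀ i, v i ≠ 0) (hv : ∀ i a, T a (v i) = φ i a • v i) :
    LinearIndependent ℂ v := by
  rw [linearIndependent_iff']
  intro s
  induction s using Finset.induction_on with
  | empty => simp
  | insert j s hj ih =>
    intro g hg
    rw [Finset.sum_insert hj] at hg
    have h1 : ∀ i ∈ s, g i = 0 := by
      intro i hi
      obtain ⟨a, ha⟩ := Function.ne_iff.1 (hφ.ne (ne_of_mem_of_not_mem hi hj))
      have h2 : ∑ k ∈ s, (g k * (φ k a - φ j a)) • v k = 0 := by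
        have h3 := congrArg (T a) hg
        have h4 := congrArg (fun u => φ j a • u) hg
        simp only [map_add, map_sum, map_smul, hv, map_zero, smul_add, Finset.smul_sum, smul_zero,
          smul_smul] at h3 h4
        simp only [mul_sub, sub_smul, Finset.sum_sub_distrib]
        rw [eq_neg_of_add_eq_zero_right h3, mul_comm (g j), ← eq_neg_of_add_eq_zero_right h4]
        simp only [mul_comm, sub_self]
      exact (mul_eq_zero.1 (ih _ h2 i hi)).resolve_right (sub_ne_zero.2 ha)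
    intro i hi
    rcases Finset.mem_insert.1 hi with rfl | hi
    · rw [Finset.sum_eq_zero fun k hk => by rw [h1 k hk, zero_smul], add_zero] at hg
      exact (smul_eq_zero.1 hg).resolve_right (h0 i)
    · exact h1 i hi

theorem card_le_of_eigen [FiniteDimensional ℂ M] {X ι : Type*} [Fintype ι] (T : X → End ℂ M)
    (φ : ι → X → ℂ) (hφ : Function.Injective φ) {N : Submodule ℂ M}
    (h : ∀ i, ∃ v ∈ N, v ≠ 0 ∧ ∀ a, T a v = φ i a • v) : Fintype.card ι ≤ finrank ℂ N := by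
  choose v h1 h2 h3 using h
  exact (LinearIndependent.of_comp N.subtype (v := fun i => (⟨v i, h1 i⟩ : N))
    (linInd_of_eigen T φ hφ v h2 h3)).fintype_card_le_finrank

theorem sum_ne_zero_of_eigen {X ι : Type*} [Fintype ι] [Nonempty ι] (T : X → End ℂ M)
    (φ : ι → X → ℂ) (hφ : Function.Injective φ) (v : ι → M) (h0 : ∀ i, v i ≠ 0)
    (hv : ∀ i a, T a (v i) = φ i a • v i) {c : ι → ℂ} (hc : ∀ i, c i ≠ 0) : ∑ i, c i • v i ≠ 0 :=
  fun e => hc (Classical.arbitrary ι)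
    (Fintype.linearIndependent_iff.1 (linInd_of_eigen T φ hφ v h0 hv) c e _)

end Basic

variable {A : Type*} [AddCommGroup A]

/-- The weight space of `χ`. -/
def wt (x : A → G) (χ : AddChar A ℂ) : Submodule ℂ M where
  carrier := {v | ∀ a, ρ (x a) v = χ a • v}
  zero_mem' a := by simp
  add_mem' {u v} hu hv a := by rw [map_add, hu a, hv a, smul_add]
  smul_mem' c v hv a := by rw [map_smul, hv a, smul_comm]

variable {ρ} {x : A → G} {χ χ' : AddChar A ℂ} {v : M}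

theorem mem_wt : v ∈ wt ρ x χ ↔ ∀ a, ρ (x a) v = χ a • v := Iff.rfl

theorem mem_wt_one : v ∈ wt ρ x 1 ↔ ∀ a, ρ (x a) v = v := by simp [mem_wt]

theorem chi_ne_zero (χ : AddChar A ℂ) (a : A) : χ a ≠ 0 := (AddChar.val_isUnit χ a).ne_zero

theorem chi_mul_neg (χ : AddChar A ℂ) (a : A) : χ a * χ (-a) = 1 := by
  rw [← AddChar.map_add_eq_mul, add_neg_cancel, AddChar.map_zero_eq_one]

theorem smul_eq_self_iff (hv : v ≠ 0) {c : ℂ} : c • v = v ↔ c = 1 :=
  ⟨fun h => smul_left_injective ℂ hv (by simpa using h), fun h => by rw [h, one_smul]⟩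

theorem wt_unique (hv : v ≠ 0) (h : v ∈ wt ρ x χ) (h' : v ∈ wt ρ x χ') : χ = χ' :=
  AddChar.ext _ _ fun a => smul_left_injective ℂ hv ((h a).symm.trans (h' a))

/-- Transport of weight vectors by conjugation. -/
theorem mem_wt_conj {B : Type*} [AddCommGroup B] {y : B → G} {η : AddChar B ℂ} {g : G} (σ : B → A)
    (h : ∀ b, y b * g = g * x (σ b)) (hη : ∀ b, η b = χ (σ b)) (hv : v ∈ wt ρ x χ) :
    ρ g v ∈ wt ρ y η := fun b => by
  rw [← rho_mul, h, rho_mul, hv, map_smul, hη]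

theorem mem_wt_comm {g : G} (h : ∀ a, x a * g = g * x a) (hv : v ∈ wt ρ x χ) : ρ g v ∈ wt ρ x χ :=
  mem_wt_conj id h (fun _ => rfl) hv

variable [Fintype A]

variable (ρ x χ) in
/-- The projection on the weight space of `χ`. -/
noncomputable def pr : End ℂ M := (Fintype.card A : ℂ)⁻¹ • ∑ a, χ (-a) • ρ (x a)

theorem pr_apply (v : M) : pr ρ x χ v = (Fintype.card A : ℂ)⁻¹ • ∑ a, χ (-a) • ρ (x a) v := by
  simp [pr, LinearMap.sum_apply]

theorem card_ne : (Fintype.card A : ℂ) ≠ 0 := Nat.cast_ne_zero.2 Fintype.card_ne_zero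

theorem x_zero (hx : ∀ a b, x (a + b) = x a * x b) : x 0 = 1 := by
  have := hx 0 0
  rw [add_zero] at this
  exact left_eq_mul.1 this

theorem pr_mem_wt (hx : ∀ a b, x (a + b) = x a * x b) (v : M) : pr ρ x χ v ∈ wt ρ x χ := fun b => by
  rw [pr_apply, map_smul, map_sum, smul_comm (χ b)]
  congr 1
  rw [Finset.smul_sum, ← Equiv.sum_comp (Equiv.addLeft b) fun a => χ b • χ (-a) • ρ (x a) v]
  refine Finset.sum_congr rfl fun a _ => ?_
  rw [map_smul, ← rho_mul, ← hx, Equiv.coe_addLeft, smul_smul, ← AddChar.map_add_eq_mul]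
  congr 2
  change -a = b + -(b + a)
  abel

theorem pr_of_mem (hv : v ∈ wt ρ x χ') : pr ρ x χ v = if χ = χ' then v else 0 := by
  have h1 : ∑ a, χ (-a) • ρ (x a) v = (∑ a, (χ' - χ) a) • v := by
    rw [Finset.sum_smul]
    refine Finset.sum_congr rfl fun a _ => ?_
    rw [hv a, smul_smul, AddChar.sub_apply, mul_comm]
  rw [pr_apply, h1, AddChar.sum_eq_ite, smul_smul]
  by_cases h : χ = χ'
  · rw [if_pos (sub_eq_zero.2 h.symm), if_pos h, inv_mul_cancel₀ card_ne, one_smul]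
  · rw [if_neg (fun e => h (sub_eq_zero.1 e).symm), if_neg h, mul_zero, zero_smul]

theorem pr_self (hv : v ∈ wt ρ x χ) : pr ρ x χ v = v := by rw [pr_of_mem hv, if_pos rfl]

theorem pr_ne (hv : v ∈ wt ρ x χ') (h : χ ≠ χ') : pr ρ x χ v = 0 := by rw [pr_of_mem hv, if_neg h]

theorem sum_pr (hx : ∀ a b, x (a + b) = x a * x b) (v : M) : ∑ χ, pr ρ x χ v = v := by
  simp only [pr_apply]
  rw [← Finset.smul_sum, Finset.sum_comm]
  have : ∀ a : A, ∑ χ : AddChar A ℂ, χ (-a) • ρ (x a) v =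
      if a = 0 then (Fintype.card A : ℂ) • v else 0 := fun a => by
    rw [← Finset.sum_smul, AddChar.sum_apply_eq_ite]
    by_cases h : a = 0
    · simp [h, x_zero hx]
    · simp [h]
  simp only [this, Finset.sum_ite_eq', Finset.mem_univ, if_true]
  rw [smul_smul, inv_mul_cancel₀ card_ne, one_smul]

theorem pr_mem {N : Submodule ℂ M} (hN : ∀ a, ∀ v ∈ N, ρ (x a) v ∈ N) (hv : v ∈ N) :
    pr ρ x χ v ∈ N := by
  rw [pr_apply]
  exact N.smul_mem _ (N.sum_mem fun a _ => N.smul_mem _ (hN a v hv))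

theorem pr_comm {T : End ℂ M} (h : ∀ a v, T (ρ (x a) v) = ρ (x a) (T v)) (v : M) :
    T (pr ρ x χ v) = pr ρ x χ (T v) := by
  simp only [pr_apply, map_smul, map_sum, h]

theorem exists_pr_ne (hx : ∀ a b, x (a + b) = x a * x b) (hv : v ≠ 0) : ∃ χ, pr ρ x χ v ≠ 0 := by
  by_contra h
  push Not at h
  exact hv (by rw [← sum_pr (ρ := ρ) hx v]; simp [h])

theorem exists_wt (hx : ∀ a b, x (a + b) = x a * x b) {N : Submodule ℂ M}
    (hN : ∀ a, ∀ v ∈ N, ρ (x a) v ∈ N) (hv : v ∈ N) (h0 : v ≠ 0) :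
    ∃ χ, ∃ u ∈ N, u ≠ 0 ∧ u ∈ wt ρ x χ := by
  obtain ⟨χ, h⟩ := exists_pr_ne (ρ := ρ) hx h0
  exact ⟨χ, _, pr_mem hN hv, h, pr_mem_wt hx v⟩

/-- A linear property of all weight vectors of an invariant subspace holds throughout. -/
theorem mem_of_wt (hx : ∀ a b, x (a + b) = x a * x b) {N N' : Submodule ℂ M}
    (hN : ∀ a, ∀ v ∈ N, ρ (x a) v ∈ N) (h : ∀ χ, ∀ u ∈ N, u ∈ wt ρ x χ → u ∈ N') (hv : v ∈ N) :
    v ∈ N' := by
  rw [← sum_pr (ρ := ρ) hx v]
  exact N'.sum_mem fun χ _ => h χ _ (pr_mem hN hv) (pr_mem_wt hx v)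

theorem exists_wt_ne (hx : ∀ a b, x (a + b) = x a * x b) {N : Submodule ℂ M}
    (hN : ∀ a, ∀ v ∈ N, ρ (x a) v ∈ N) (hv : v ∈ N) {a : A} (ha : ρ (x a) v ≠ v) :
    ∃ χ : AddChar A ℂ, χ a ≠ 1 ∧ ∃ u ∈ N, u ≠ 0 ∧ u ∈ wt ρ x χ := by
  by_contra h
  push Not at h
  have := mem_of_wt hx (N' := LinearMap.eqLocus (ρ (x a)) LinearMap.id) hN (fun χ u hu hw => by
    by_cases h0 : u = 0
    · rw [h0]; exact zero_mem _
    · by_cases h1 : χ a = 1
      · rw [LinearMap.mem_eqLocus, hw a, h1, one_smul]; rfl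
      · exact (h χ h1 u hu h0 hw).elim) hv
  exact ha this

/-- The averaging lemma. -/
theorem pr_ne_zero {X : Type*} (T : X → End ℂ M) (φ : A → X → ℂ) (hφ : Function.Injective φ)
    (h0 : v ≠ 0) (hv : ∀ a b, T b (ρ (x a) v) = φ a b • ρ (x a) v) : pr ρ x χ v ≠ 0 := by
  rw [pr_apply]
  exact smul_ne_zero (inv_ne_zero card_ne) (sum_ne_zero_of_eigen T φ hφ _
    (fun a => rho_ne_zero ρ _ h0) hv fun a => chi_ne_zero χ _)

omit [AddCommGroup A] [Fintype A] in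
/-- A common eigenvector of a finite commutative group. -/
theorem exists_eigen {Q : Type*} [Group Q] [Finite Q] (hQ : ∀ a b : Q, a * b = b * a) (t : Q →* G)
    {N : Submodule ℂ M} (hN : ∀ a, ∀ v ∈ N, ρ (t a) v ∈ N) (hv : v ∈ N) (h0 : v ≠ 0) :
    ∃ φ : Q →* ℂ, ∃ u ∈ N, u ≠ 0 ∧ ∀ a, ρ (t a) u = φ a • u := by
  let _ : CommGroup Q := { (inferInstance : Group Q) with mul_comm := hQ }
  have := Fintype.ofFinite (Additive Q)
  obtain ⟨χ, u, h1, h2, h3⟩ := exists_wt (ρ := ρ) (x := fun a : Additive Q => t a.toMul)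
    (fun a b => map_mul t _ _) (fun a => hN _) hv h0
  exact ⟨⟨⟨fun a => χ (Additive.ofMul a), χ.map_zero_eq_one⟩, fun a b => χ.map_add_eq_mul _ _⟩,
    u, h1, h2, fun a => h3 (Additive.ofMul a)⟩

variable [FiniteDimensional ℂ M]

theorem finrank_eq_sum (hx : ∀ a b, x (a + b) = x a * x b) {N : Submodule ℂ M}
    (hN : ∀ a, ∀ v ∈ N, ρ (x a) v ∈ N) : finrank ℂ N = ∑ χ, finrank ℂ ↥(N ⊓ wt ρ x χ) := by
  let f : N →ₗ[ℂ] ∀ χ : AddChar A ℂ, ↥(N ⊓ wt ρ x χ) := LinearMap.pi fun χ =>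
    LinearMap.codRestrict _ (pr ρ x χ ∘ₗ N.subtype) fun v => ⟨pr_mem hN v.2, pr_mem_wt hx _⟩
  have hf : ∀ v χ, (f v χ : M) = pr ρ x χ v := fun _ _ => rfl
  rw [← finrank_pi_fintype]
  refine (LinearEquiv.ofBijective f ⟨?_, fun u => ?_⟩).finrank_eq
  · rw [injective_iff_map_eq_zero]
    intro v hv
    apply Subtype.ext
    rw [← sum_pr (ρ := ρ) hx (v : M)]
    simp [← hf, hv]
  · refine ⟨⟨∑ χ, (u χ : M), N.sum_mem fun χ _ => (u χ).2.1⟩, funext fun χ => Subtype.ext ?_⟩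
    rw [hf, map_sum, Finset.sum_eq_single χ (fun χ' _ h => pr_ne (u χ').2.2 h.symm) (by simp)]
    exact pr_self (u χ).2.2

theorem finrank_eq_sum' (hx : ∀ a b, x (a + b) = x a * x b) :
    finrank ℂ M = ∑ χ, finrank ℂ (wt ρ x χ) := by
  rw [← finrank_top, finrank_eq_sum (ρ := ρ) hx (N := ⊤) fun _ _ _ => trivial]
  exact Finset.sum_congr rfl fun χ _ => by rw [top_inf_eq]

theorem sum_le_finrank (hx : ∀ a b, x (a + b) = x a * x b) {N : Submodule ℂ M}
    (hN : ∀ a, ∀ v ∈ N, ρ (x a) v ∈ N) {ι : Type*} (s : Finset ι) (c : ι → AddChar A ℂ)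
    (hc : Set.InjOn c s) : ∑ i ∈ s, finrank ℂ ↥(N ⊓ wt ρ x (c i)) ≤ finrank ℂ N := by
  rw [finrank_eq_sum hx hN, ← Finset.sum_image (f := fun χ => finrank ℂ ↥(N ⊓ wt ρ x χ)) hc]
  exact Finset.sum_le_sum_of_subset (Finset.subset_univ _)

theorem card_mul_le (hx : ∀ a b, x (a + b) = x a * x b) {N : Submodule ℂ M}
    (hN : ∀ a, ∀ v ∈ N, ρ (x a) v ∈ N) {ι : Type*} (s : Finset ι) (c : ι → AddChar A ℂ)
    (hc : Set.InjOn c s) {m : ℕ} (h : ∀ i ∈ s, m ≤ finrank ℂ ↥(N ⊓ wt ρ x (c i))) :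
    s.card * m ≤ finrank ℂ N := by
  refine le_trans ?_ (sum_le_finrank hx hN s c hc)
  rw [← smul_eq_mul, ← Finset.sum_const]
  exact Finset.sum_le_sum h

theorem one_le_finrank {N : Submodule ℂ M} (hv : v ∈ N) (h0 : v ≠ 0) : 1 ≤ finrank ℂ N :=
  Submodule.one_le_finrank_iff.2 fun h => h0 (by rwa [h] at hv)

theorem card_le_finrank (hx : ∀ a b, x (a + b) = x a * x b) {N : Submodule ℂ M}
    (hN : ∀ a, ∀ v ∈ N, ρ (x a) v ∈ N) {ι : Type*} (s : Finset ι) (c : ι → AddChar A ℂ)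
    (hc : Set.InjOn c s) (h : ∀ i ∈ s, ∃ u ∈ N, u ≠ 0 ∧ u ∈ wt ρ x (c i)) :
    s.card ≤ finrank ℂ N := by
  simpa using card_mul_le hx hN s c hc (m := 1) fun i hi => by
    obtain ⟨u, h1, h2, h3⟩ := h i hi
    exact one_le_finrank (v := u) ⟨h1, h3⟩ h2

/-- The trivial weight space together with equally large non-trivial weight spaces. -/
theorem one_add_le (hx : ∀ a b, x (a + b) = x a * x b) {N : Submodule ℂ M}
    (hN : ∀ a, ∀ v ∈ N, ρ (x a) v ∈ N) (s : Finset (AddChar A ℂ)) (hs : 1 ∉ s) {m : ℕ}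
    (h : ∀ χ ∈ s, m ≤ finrank ℂ ↥(N ⊓ wt ρ x χ)) :
    finrank ℂ ↥(N ⊓ wt ρ x 1) + s.card * m ≤ finrank ℂ N := by
  refine le_trans ?_ (sum_le_finrank hx hN (insert 1 s) id (Set.injOn_id _))
  rw [Finset.sum_insert hs, ← smul_eq_mul, ← Finset.sum_const]
  exact Nat.add_le_add_left (Finset.sum_le_sum h) _

theorem one_add_le' (hx : ∀ a b, x (a + b) = x a * x b) {N : Submodule ℂ M}
    (hN : ∀ a, ∀ v ∈ N, ρ (x a) v ∈ N) {ι : Type*} (s : Finset ι) (c : ι → AddChar A ℂ)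
    (hc : Set.InjOn c s) (hs : ∀ i ∈ s, c i ≠ 1) {m : ℕ}
    (h : ∀ i ∈ s, m ≤ finrank ℂ ↥(N ⊓ wt ρ x (c i))) :
    finrank ℂ ↥(N ⊓ wt ρ x 1) + s.card * m ≤ finrank ℂ N := by
  rw [← Finset.card_image_of_injOn hc]
  refine one_add_le hx hN _ (fun h1 => ?_) fun χ h1 => ?_
  · obtain ⟨i, hi, e⟩ := Finset.mem_image.1 h1
    exact hs i hi e
  · obtain ⟨i, hi, rfl⟩ := Finset.mem_image.1 h1
    exact h i hi

omit [Fintype A] [AddCommGroup A] in
/-- The trace lemma for groups of Heisenberg type. -/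
theorem card_le_sq {W : Type*} [Fintype W] (T : W → G) {N : Submodule ℂ M} (K : Subgroup G)
    (hK : ∀ k ∈ K, ∀ v ∈ N, ρ k v ∈ N) (hT : ∀ w, T w ∈ K) (hv : v ∈ N) (h0 : v ≠ 0)
    (h : ∀ w w', w ≠ w' → ∃ y ∈ K, ∃ c : ℂ, c ≠ 1 ∧
      ∀ u ∈ N, ρ (y * ((T w)⁻¹ * T w') * y⁻¹) u = c • ρ ((T w)⁻¹ * T w') u) :
    Fintype.card W ≤ finrank ℂ N * finrank ℂ N := by
  let τ := res ρ K.subtype N fun k => hK k k.2
  have hN : (finrank ℂ N : ℂ) ≠ 0 := Nat.cast_ne_zero.2 (by have := one_le_finrank hv h0; omega)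
  have htr : ∀ w w', w ≠ w' →
      LinearMap.trace ℂ N (τ ((⟨T w, hT w⟩ : K)⁻¹ * ⟨T w', hT w'⟩)) = 0 := by
    intro w w' hw
    obtain ⟨y, hy, c, hc, e⟩ := h w w' hw
    set k : K := (⟨T w, hT w⟩ : K)⁻¹ * ⟨T w', hT w'⟩
    have h1 : τ (⟨y, hy⟩ * k * (⟨y, hy⟩ : K)⁻¹) = c • τ k :=
      LinearMap.ext fun u => Subtype.ext (e u u.2)
    have h2 : LinearMap.trace ℂ N (τ (⟨y, hy⟩ * k * (⟨y, hy⟩ : K)⁻¹)) = LinearMap.trace ℂ N (τ k) := by
      rw [map_mul, LinearMap.trace_mul_comm, ← map_mul, ← mul_assoc, inv_mul_cancel, one_mul]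
    rw [h1, map_smul, smul_eq_mul] at h2
    have : (c - 1) * LinearMap.trace ℂ N (τ k) = 0 := by linear_combination h2
    exact (mul_eq_zero.1 this).resolve_left (sub_ne_zero.2 hc)
  have hli : LinearIndependent ℂ fun w => τ ⟨T w, hT w⟩ := by
    rw [Fintype.linearIndependent_iff]
    intro g hg w
    have h1 := congrArg (fun S => LinearMap.trace ℂ N (τ (⟨T w, hT w⟩ : K)⁻¹ * S)) hg
    simp only [Finset.mul_sum, mul_smul_comm, map_sum, map_smul, mul_zero, map_zero, ← map_mul] at h1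
    rw [Finset.sum_eq_single w (fun w' _ hw => by rw [htr w w' hw.symm, smul_zero]) (by simp),
      inv_mul_cancel, map_one, LinearMap.trace_one, smul_eq_mul] at h1
    exact (mul_eq_zero.1 h1).resolve_right hN
  simpa [finrank_linearMap] using hli.fintype_card_le_finrank

theorem force_eq_basic : True := by
  have := @res.eq_1.{0,0,0}
  have := @res.eq_def.{0,0,0}
  have := @wt.eq_1.{0,0,0}
  have := @wt.eq_def.{0,0,0}
  have := @pr.eq_1.{0,0,0}
  have := @pr.eq_def.{0,0,0}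
  trivial

end H20.MR
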