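import Cfsg.Agent.Lib.MinRep.Basic
import Cfsg.Agent.Lib.MinDeg.Dual
import Cfsg.Agent.Lib.Char.More
import Cfsg.Agent.Lib.Char.Integral

/-! Traces on weight spaces, a divisibility property of degrees, orthogonal families of characters. -/

set_option autoImplicit false
set_option linter.unusedSectionVars false

namespace H20.MR

open Module Cfsg H20.MD
open scoped Classical

section Trace

variable {G M : Type*} [Group G] [AddCommGroup M] [Module ℂ M] [FiniteDimensional ℂ M]
  {ρ : Representation ℂ G M} {A : Type*} [AddCommGroup A] [Fintype A] {x : A → G} {χ : AddChar A ℂ}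

theorem trace_mul_pr (hx : ∀ a b, x (a + b) = x a * x b) {T : End ℂ M}
    (hT : ∀ v ∈ wt ρ x χ, T v ∈ wt ρ x χ) :
    LinearMap.trace ℂ M (T * pr ρ x χ) = LinearMap.trace ℂ _ (T.restrict hT) := by
  rw [← LinearMap.trace_restrict_eq_of_forall_mem (wt ρ x χ) (T * pr ρ x χ)
    fun v => hT _ (pr_mem_wt hx v)]
  congr 1
  exact LinearMap.ext fun v => Subtype.ext (congrArg T (pr_self v.2))

theorem trace_mul_pr' (g : G) : (Fintype.card A : ℂ) * LinearMap.trace ℂ M (ρ g * pr ρ x χ) =
    ∑ a, χ (-a) * ρ.character (g * x a) := by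
  simp only [pr, mul_smul_comm, map_smul, Finset.mul_sum, map_sum, smul_eq_mul, ← map_mul]
  rw [← Finset.mul_sum, ← Finset.mul_sum, mul_inv_cancel_left₀ card_ne]
  rfl

theorem card_mul_finrank_wt (hx : ∀ a b, x (a + b) = x a * x b) :
    (Fintype.card A : ℂ) * finrank ℂ (wt ρ x χ) = ∑ a, χ (-a) * ρ.character (x a) := by
  have h1 := trace_mul_pr' (ρ := ρ) (x := x) (χ := χ) 1
  rw [map_one, trace_mul_pr hx fun _ h => h, show (1 : End ℂ M).restrict _ = 1 from rfl,
    LinearMap.trace_one] at h1
  simpa only [one_mul] using h1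

theorem character_eq_sum (hx : ∀ a b, x (a + b) = x a * x b) {H : Type*} [Group H] (φ : H →* G)
    (h : ∀ a k, x a * φ k = φ k * x a) (k : H) : ρ.character (φ k) =
      ∑ χ, (res ρ φ (wt ρ x χ) fun k _ => mem_wt_comm fun a => h a k).character k := by
  have : ρ (φ k) = ∑ χ, ρ (φ k) * pr ρ x χ := LinearMap.ext fun v => by
    simp only [LinearMap.sum_apply, End.mul_apply, ← map_sum, sum_pr hx]
  rw [Representation.character, this, map_sum]
  exact Finset.sum_congr rfl fun χ _ => trace_mul_pr hx fun _ => mem_wt_comm fun a => h a k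

/-- The degree divides the sum of the character over a conjugation invariant family of subsets. -/
theorem finrank_dvd [Fintype G] (hρ : ρ.IsIrreducible) {Ω : Type*} [Fintype Ω] (S : Ω → Finset G)
    (hS : ∀ h : G, ∃ e : Ω ≃ Ω, ∀ ω g, h * g * h⁻¹ ∈ S (e ω) ↔ g ∈ S ω) {c : ℕ}
    (hc : ∀ ω, ∑ g ∈ S ω, ρ.character g = c) : finrank ℂ M ∣ Fintype.card Ω * c := by
  have h1 := H8.isIntegral_sum_div ρ (fun g => ∑ ω, if g ∈ S ω then 1 else 0) (fun g h => by
    obtain ⟨e, he⟩ := hS h
    rw [← e.sum_comp]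
    simp only [he]) fun g => IsIntegral.sum _ fun ω _ => by
      split_ifs
      exacts [isIntegral_one, isIntegral_zero]
  refine H8.dvd_of_isIntegral_div (H8.finrank_pos_of_isIrreducible ρ) ?_
  convert h1 using 2
  simp only [Finset.sum_mul, ite_mul, one_mul, zero_mul]
  rw [Finset.sum_comm]
  simp [hc]

end Trace

/-- Additive characters of a finite vector space come from linear functionals. -/
theorem exists_dual {F A : Type*} [Field F] [Finite F] [AddCommGroup A] [Module F A] [Finite A]
    (χ : AddChar A ℂ) : ∃ θ : Dual F A, ∀ a, χ a = psi F (θ a) := by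
  have := Fintype.ofFinite A
  have : Finite (Dual F A) := Finite.of_injective _ DFunLike.coe_injective
  have := Fintype.ofFinite (Dual F A)
  let f : Dual F A → AddChar A ℂ := fun θ => (psi F).compAddMonoidHom θ.toAddMonoidHom
  have hf : Function.Injective f := fun θ θ' e => LinearMap.ext fun a =>
    sub_eq_zero.1 (eq_zero_of_psi fun t => by
      have h1 : psi F (θ (t • a)) = psi F (θ' (t • a)) := DFunLike.congr_fun e (t • a)
      rw [θ.map_smul, θ'.map_smul, smul_eq_mul, smul_eq_mul] at h1
      rw [mul_sub, AddChar.map_sub_eq_div, h1, div_self (chi_ne_zero _ _)])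
  obtain ⟨θ, hθ⟩ := ((Fintype.bijective_iff_injective_and_card f).2 ⟨hf, by
    rw [AddChar.card_eq, ← Nat.card_eq_fintype_card, ← Nat.card_eq_fintype_card,
      Module.natCard_eq_pow_finrank (K := F), Module.natCard_eq_pow_finrank (K := F) (V := A),
      Subspace.dual_finrank_eq]⟩).2 χ
  exact ⟨θ, fun a => by rw [← hθ]; rfl⟩

/-- Non-zero characters whose sum has small norm are irreducible and distinct. -/
theorem irr_of_sum {G : Type*} [Group G] [Fintype G] {κ : Type*} [Fintype κ] (θ : κ → G → ℂ)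
    (h1 : ∀ i, IsCharacter G (θ i)) (h0 : ∀ i, θ i 1 ≠ 0) {r : ℕ} (hr : r ≤ Fintype.card κ)
    (h : classInner (∑ i, θ i) (∑ i, θ i) = r) :
    (∀ i, IsIrrCharacter G (θ i)) ∧ Function.Injective θ := by
  choose c hc using fun i j => H6.char_inner_nat (h1 i) (h1 j)
  have h2 : ∀ i, 1 ≤ c i i := fun i => Nat.one_le_iff_ne_zero.2 fun e => h0 i (by
    rw [H6.classInner_self_eq_zero.1 (by rw [hc, e, Nat.cast_zero] : classInner (θ i) (θ i) = 0)]
    rfl)
  have h3 : ∑ i, ∑ j, c i j = r := by
    simp only [H6.classInner_sum_left, H6.classInner_sum_right, hc] at h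
    rw [Finset.sum_comm]
    exact_mod_cast h
  have h4 : ∀ i, 1 ≤ ∑ j, c i j := fun i =>
    (h2 i).trans (Finset.single_le_sum (fun _ _ => Nat.zero_le _) (Finset.mem_univ i))
  have h5 : ∀ i, 1 = ∑ j, c i j := fun i => (Finset.sum_eq_sum_iff_of_le fun i _ => h4 i).1
    (le_antisymm (Finset.sum_le_sum fun i _ => h4 i) (by simpa [h3] using hr)) i (Finset.mem_univ i)
  have h6 : ∀ i j, i ≠ j → c i i + c i j ≤ 1 := fun i j hij => by
    rw [h5 i, ← Finset.sum_pair hij]
    exact Finset.sum_le_sum_of_subset (Finset.subset_univ _)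
  refine ⟨fun i => H6.isIrr_of_char_of_inner_self (h1 i) ?_, fun i j e => by_contra fun hij => ?_⟩
  · rw [hc, le_antisymm ((Finset.single_le_sum (fun _ _ => Nat.zero_le _) (Finset.mem_univ i)).trans
      (h5 i).ge) (h2 i), Nat.cast_one]
  · have h7 : c i j = c i i := by
      have := hc i j
      rw [← e, hc] at this
      exact_mod_cast this.symm
    have := h6 i j hij
    have := h2 i
    omega

end H20.MR
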