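import Mathlib

/-! A lower bound for the orbits of the general linear group on symmetric bilinear forms of rank at
least two over a finite field of odd order. -/

set_option autoImplicit false
set_option linter.unusedSectionVars false

namespace H20.MR

open Module Finset
open scoped Classical

theorem card_fiber_mul {A B : Type*} [AddGroup A] [AddGroup B] [Fintype A] [Fintype B] (f : A →+ B)
    (hf : Function.Surjective f) (b : B) : #{a | f a = b} * Fintype.card B = Fintype.card A := by
  rw [← card_univ (α := A), card_eq_sum_card_fiberwise (f := f) (s := univ) (t := univ) (by simp),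
    sum_congr rfl fun c _ => AddMonoidHom.card_fiber_eq_of_mem_range f (hf c) (hf b)]
  simp [mul_comm]

variable {F X : Type*} [Field F] [AddCommGroup X] [Module F X]

theorem exists_equiv_of_split [FiniteDimensional F X] {U : Type*} [AddCommGroup U] [Module F U]
    {i i' : U →ₗ[F] X} {p p' : X →ₗ[F] U} (h : ∀ u, p (i u) = u) (h' : ∀ u, p' (i' u) = u) :
    ∃ g : X ≃ₗ[F] X, (∀ u, g (i u) = i' u) ∧ ∀ x, p' (g x) = p x := by
  have h1 := p.finrank_range_add_finrank_ker
  have h2 := p'.finrank_range_add_finrank_ker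
  rw [LinearMap.range_eq_top.2 fun u => ⟨_, h u⟩] at h1
  rw [LinearMap.range_eq_top.2 fun u => ⟨_, h' u⟩] at h2
  let κ := LinearEquiv.ofFinrankEq (R := F) (LinearMap.ker p) (LinearMap.ker p') (by omega)
  let r := (LinearMap.id - i ∘ₗ p).codRestrict (LinearMap.ker p) fun x => by simp [h]
  let G := i' ∘ₗ p + (LinearMap.ker p').subtype ∘ₗ κ.toLinearMap ∘ₗ r
  have h3 : ∀ x, G x = i' (p x) + κ (r x) := fun _ => rfl
  have h4 : ∀ x, p' (G x) = p x := fun x => by rw [h3, map_add, h', (κ (r x)).2, add_zero]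
  refine ⟨LinearEquiv.ofInjectiveEndo G ((injective_iff_map_eq_zero _).2 fun x hx => ?_), fun u => ?_, h4⟩
  · have h5 : p x = 0 := by rw [← h4, hx, map_zero]
    rw [h3, h5, map_zero, zero_add, ZeroMemClass.coe_eq_zero, map_eq_zero_iff _ κ.injective] at hx
    simpa [r, h5] using congrArg Subtype.val hx
  · change G _ = _
    rw [h3, h, show r (i u) = 0 from Subtype.ext (by simp [r, h]), map_zero, ZeroMemClass.coe_zero, add_zero]

variable [Fintype F]

theorem two_ne_zero_of_odd (hq : Fintype.card F % 2 = 1) : (2 : F) ≠ 0 :=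
  Ring.two_ne_zero fun h => by have := FiniteField.even_card_iff_char_two.1 h; omega

theorem card_quad_le {a : F} (ha : a ≠ 0) (b c : F) : #{t : F | a * t * t + b * t + c = 0} ≤ 2 := by
  by_contra! h
  obtain ⟨x, y, z, hx, hy, hz, h1, h2, h3⟩ := two_lt_card_iff.1 h
  simp only [mem_filter, mem_univ, true_and] at hx hy hz
  have h4 : a * (x + y) + b = 0 := mul_left_cancel₀ (sub_ne_zero.2 h1) (by linear_combination hx - hy)
  have h5 : a * (x + z) + b = 0 := mul_left_cancel₀ (sub_ne_zero.2 h2) (by linear_combination hx - hz)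
  exact h3 (mul_left_cancel₀ ha (by linear_combination h4 - h5))

open Polynomial in
theorem exists_quad_root (hq : Fintype.card F % 2 = 1) {a a' : F} (ha : a ≠ 0) (ha' : a' ≠ 0) (b b' c : F) :
    ∃ s t : F, a * s ^ 2 + b * s + c + (a' * t ^ 2 + b' * t) = 0 := by
  simpa using FiniteField.exists_root_sum_quadratic (degree_quadratic (b := b) (c := c) ha)
    (degree_quadratic (b := b') (c := 0) ha') hq

variable [Fintype X] {b : X →ₗ[F] X →ₗ[F] F} {Q : ℕ}

theorem exists_orth_pair (h2 : (2 : F) ≠ 0) (hb : ∀ x y, b x y = b y x) {d r : X}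
    (h : b d r * b d r ≠ b d d * b r r) : ∃ x y, b x x ≠ 0 ∧ b x y = 0 ∧ b y y ≠ 0 := by
  have key : ∀ d r : X, b d r * b d r ≠ b d d * b r r → b d d ≠ 0 → ∃ x y, b x x ≠ 0 ∧ b x y = 0 ∧ b y y ≠ 0 :=
    fun d r h h1 => ⟨d, b d d • r - b d r • d, h1, by simp [mul_comm], fun e => h (mul_left_cancel₀ h1 (by
      simp only [map_sub, map_smul, LinearMap.sub_apply, LinearMap.smul_apply, smul_eq_mul, hb r d] at e
      linear_combination -e))⟩
  by_cases h1 : b d d = 0
  · by_cases h3 : b r r = 0
    · refine key (d + r) r (by simpa [h1, h3] using h) ?_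
      simp only [map_add, LinearMap.add_apply, h1, h3, hb r d, zero_add, add_zero, ← two_mul]
      exact mul_ne_zero h2 fun e => h (by simp [e, h1])
    · exact key r d (by rwa [hb r d, mul_comm (b r r)]) h3
  · exact key d r h h1

theorem card_zero_ge (hq : Fintype.card F % 2 = 1) (hb : ∀ x y, b x y = b y x) {x y : X} (hx : b x x ≠ 0)
    (hxy : b x y = 0) (hy : b y y ≠ 0) : Fintype.card X ≤ #{w | b w w = 0} * Fintype.card F ^ 2 := by
  choose s t h using fun w => exists_quad_root hq hx hy (2 * b w x) (2 * b w y) (b w w)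
  have := card_le_card_of_injOn (s := univ) (t := ({w | b w w = 0} : Finset X) ×ˢ (univ : Finset (F × F)))
    (fun w => (w + s w • x + t w • y, s w, t w)) (fun w _ => by
      simp only [coe_product, coe_filter, Set.mem_prod, Set.mem_ofPred_eq, mem_univ, coe_univ, Set.mem_univ,
        map_add, map_smul, LinearMap.add_apply, LinearMap.smul_apply, smul_eq_mul, hb x w, hb y w, hb y x,
        hxy, true_and, and_true]
      linear_combination h w) fun w _ w' _ e => by
      simp only [Prod.mk.injEq] at e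
      simpa [e.2.1, e.2.2] using e.1
  simpa [sq] using this

theorem card_orth_le (hb : ∀ x y, b x y = b y x) (hQ : Fintype.card X = Fintype.card F ^ 2 * Q) {x : X}
    (hx : b x x ≠ 0) {c : F} (hc : c ≠ 0) : #{y | b x y = 0 ∧ b y y = c} ≤ 2 * Q := by
  rcases ({y | b x y = 0 ∧ b y y = c} : Finset X).eq_empty_or_nonempty with h | ⟨z, hz⟩
  · simp [h]
  simp only [mem_filter, mem_univ, true_and] at hz
  have h1 := card_fiber_mul (b x).toAddMonoidHom (fun a => ⟨(a / b x x) • x, by simp [hx]⟩) 0
  have h2 := card_le_mul_card_image_of_maps_to (s := ({y | b x y = 0 ∧ b y y = c} : Finset X) ×ˢ univ)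
    (t := {a | (b x).toAddMonoidHom a = 0}) (f := fun p : X × F => p.1 + p.2 • z)
    (fun p hp => by
      simp only [mem_product, mem_filter] at hp
      exact mem_filter.2 ⟨mem_univ _, by simp [hp.1.2.1, hz.1]⟩) 2 fun w _ =>
    (card_le_card_of_injOn Prod.snd (fun p hp => by
      simp only [coe_filter, mem_product, mem_filter, mem_univ, true_and, and_true, Set.mem_ofPred_eq] at hp ⊢
      rw [← hp.2]
      simp only [map_add, map_smul, LinearMap.add_apply, LinearMap.smul_apply, smul_eq_mul, hp.1.2, hz.2,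
        hb z p.1]
      ring) fun p hp p' hp' e => Prod.ext (by
        simp only [coe_filter, Set.mem_ofPred_eq] at hp hp'
        exact add_right_cancel (hp.2.trans (e ▸ hp'.2.symm))) e).trans
      (card_quad_le hc (-(2 * b w z)) (b w w - c))
  rw [card_product, card_univ] at h2
  have h3 : 0 < Fintype.card F := Fintype.card_pos
  have h4 : #{a | (b x).toAddMonoidHom a = 0} = Q * Fintype.card F :=
    Nat.eq_of_mul_eq_mul_right h3 (by rw [h1, hQ]; ring)
  exact Nat.le_of_mul_le_mul_right (by rwa [h4, ← mul_assoc] at h2) h3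

theorem exists_small_level (hq : Fintype.card F % 2 = 1) (hb : ∀ x y, b x y = b y x)
    (hQ : Fintype.card X = Fintype.card F ^ 2 * Q) {x y : X} (hx : b x x ≠ 0) (hxy : b x y = 0)
    (hy : b y y ≠ 0) : ∃ c ≠ 0, #{w | b w w = c} ≤ (Fintype.card F + 1) * Q := by
  have h1 := card_zero_ge hq hb hx hxy hy
  have h2 := card_eq_sum_card_fiberwise (f := fun w => b w w) (s := univ) (t := univ) (by simp)
  rw [← add_sum_erase _ _ (mem_univ 0), card_univ] at h2
  obtain ⟨p, hp⟩ : ∃ p, Fintype.card F = p + 1 := ⟨_, (Nat.succ_pred_eq_of_pos Fintype.card_pos).symm⟩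
  obtain ⟨c, hc, h3⟩ := exists_le_of_sum_le (s := univ.erase (0 : F)) (f := fun c => #{w | b w w = c})
    (g := fun _ => (Fintype.card F + 1) * Q) ⟨1, by simp⟩ (by
      rw [sum_const, card_erase_of_mem (mem_univ _), card_univ, hp, Nat.add_sub_cancel, smul_eq_mul]
      rw [hQ, mul_comm, hp] at h1
      have := Nat.le_of_mul_le_mul_right h1 (by positivity)
      rw [hQ, hp] at h2
      nlinarith)
  exact ⟨c, ne_of_mem_erase hc, h3⟩

theorem orbit_bound [FiniteDimensional F X] (hq : Fintype.card F % 2 = 1) (hb : ∀ x y, b x y = b y x)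
    {d r : X} (h : b d r * b d r ≠ b d d * b r r) (hn : 2 ≤ finrank F X) (Ω : Finset (X →ₗ[F] X →ₗ[F] F))
    (hΩ : ∀ g : X ≃ₗ[F] X, b.compl₁₂ g.toLinearMap g.toLinearMap ∈ Ω) :
    (Fintype.card F ^ finrank F X - 1) * (Fintype.card F ^ finrank F X - Fintype.card F) ≤
      2 * (Fintype.card F + 1) * #Ω := by
  obtain ⟨m, hm⟩ := Nat.exists_eq_add_of_le hn
  have hQ : Fintype.card X = Fintype.card F ^ 2 * Fintype.card F ^ m := by
    rw [card_eq_pow_finrank (K := F), hm, pow_add]
  have hQ0 : 0 < Fintype.card F ^ m := by positivity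
  generalize Fintype.card F ^ m = Q at hQ hQ0
  obtain ⟨x₀, y₀, hx₀, hxy₀, hy₀⟩ := exists_orth_pair (two_ne_zero_of_odd hq) hb h
  obtain ⟨c, hc, hS⟩ := exists_small_level hq hb hQ hx₀ hxy₀ hy₀
  obtain ⟨x, y, c', hc', hx, hxy, hy⟩ : ∃ x y c', c' ≠ 0 ∧ b x x = c ∧ b x y = 0 ∧ b y y = c' := by
    obtain ⟨s, t, e⟩ := exists_quad_root hq hx₀ hy₀ 0 0 (-c)
    refine ⟨s • x₀ + t • y₀, (s * b x₀ x₀) • y₀ - (t * b y₀ y₀) • x₀, _,
      mul_ne_zero (mul_ne_zero hx₀ hy₀) hc, ?_, ?_, ?_⟩ <;>
    simp only [map_add, map_sub, map_smul, LinearMap.add_apply, LinearMap.sub_apply, LinearMap.smul_apply,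
      smul_eq_mul, hb y₀ x₀, hxy₀]
    · linear_combination e
    · ring
    · linear_combination b x₀ x₀ * b y₀ y₀ * e
  have : Finite (Dual F X) := Module.finite_of_finite F
  have := Fintype.ofFinite (Dual F X)
  have h1 := card_mul_le_card_mul (s := ({s | LinearIndependent F s} : Finset (Fin 2 → X)))
    (t := {b' ∈ Ω | ∃ g : X ≃ₗ[F] X, b' = b.compl₁₂ g.toLinearMap g.toLinearMap})
    (fun s b' => b' (s 0) (s 0) = c ∧ b' (s 0) (s 1) = 0 ∧ b' (s 1) (s 1) = c') (m := Q * Q)
    (n := 2 * Q * ((Fintype.card F + 1) * Q)) (fun s hs => ?_) (fun b' hb' => ?_)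
  · have h2 := card_linearIndependent (K := F) (V := X) hn
    rw [Nat.card_eq_fintype_card, Fintype.card_subtype, Fin.prod_univ_two] at h2
    simp only [Fin.val_zero, pow_zero, Fin.val_one, pow_one] at h2
    rw [← h2]
    refine Nat.le_of_mul_le_mul_right (h1.trans ?_) (Nat.mul_pos hQ0 hQ0)
    exact (Nat.mul_le_mul_right _ (card_filter_le _ _)).trans_eq (by ring)
  · let ev : Dual F X →+ (Fin 2 → F) := ⟨⟨fun θ j => θ (s j), rfl⟩, fun _ _ => rfl⟩
    have h3 : ∀ u, #{θ | ev θ = u} = Q := fun u => by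
      obtain ⟨r, hr⟩ := (Fintype.linearCombination F s).exists_leftInverse_of_injective
        (LinearMap.ker_eq_bot.2 (linearIndependent_iff_injective_fintypeLinearCombination.1 (mem_filter.1 hs).2))
      have h4 := card_fiber_mul ev (fun a => ⟨Fintype.linearCombination F a ∘ₗ r, funext fun j => by
        have := LinearMap.congr_fun hr (Pi.single j 1)
        simp only [LinearMap.comp_apply, Fintype.linearCombination_apply_single, one_smul] at this
        simp [ev, this]⟩) u
      rw [card_eq_pow_finrank (K := F) (V := Dual F X), Subspace.dual_finrank_eq, ← card_eq_pow_finrank, hQ,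
        Fintype.card_fun, Fintype.card_fin, mul_comm] at h4
      exact Nat.eq_of_mul_eq_mul_left (pow_pos (Fintype.card_pos (α := F)) 2) (by convert h4)
    rw [show Q * Q = #(({θ | ev θ = ![c, 0]} : Finset _) ×ˢ ({θ | ev θ = ![0, c']} : Finset _)) by
      rw [card_product, h3, h3]]
    refine card_le_card_of_surjOn (fun b' => (b' (s 0), b' (s 1))) fun θ hθ => ?_
    simp only [coe_product, coe_filter, mem_univ, true_and, Set.mem_prod, Set.mem_ofPred_eq] at hθ
    have a1 : θ.1 (s 0) = c := congrFun hθ.1 0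
    have a2 : θ.1 (s 1) = 0 := congrFun hθ.1 1
    have a3 : θ.2 (s 0) = 0 := congrFun hθ.2 0
    have a4 : θ.2 (s 1) = c' := congrFun hθ.2 1
    obtain ⟨g, g1, g2⟩ := exists_equiv_of_split
      (i := (LinearMap.toSpanSingleton F X (s 0)).coprod (LinearMap.toSpanSingleton F X (s 1)))
      (i' := (LinearMap.toSpanSingleton F X x).coprod (LinearMap.toSpanSingleton F X y))
      (p := (c⁻¹ • θ.1).prod (c'⁻¹ • θ.2)) (p' := (c⁻¹ • b x).prod (c'⁻¹ • b y))
      (fun u => by ext <;> simp [a1, a2, a3, a4] <;> field_simp)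
      (fun u => by ext <;> simp [hx, hxy, hb y x, hy] <;> field_simp)
    have g3 : g (s 0) = x := by simpa using g1 (1, 0)
    have g4 : g (s 1) = y := by simpa using g1 (0, 1)
    refine ⟨_, mem_coe.2 (mem_filter.2 ⟨mem_filter.2 ⟨hΩ g, g, rfl⟩, by simp [g3, g4, hx, hxy, hy]⟩),
      Prod.ext (LinearMap.ext fun w => ?_) (LinearMap.ext fun w => ?_)⟩
    · simpa [g3, hc] using congrArg Prod.fst (g2 w)
    · simpa [g4, hc'] using congrArg Prod.snd (g2 w)
  · obtain ⟨g, hg⟩ := (mem_filter.1 hb').2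
    have h5 : ∀ x y, b' x y = b' y x := fun x y => by simp [hg, hb (g x)]
    refine (card_le_mul_card_image_of_maps_to (t := {w | b' w w = c}) (f := fun s => s 0)
      (fun s hs => by simpa using (mem_filter.1 hs).2.1) (2 * Q) fun w hw => ?_).trans
      (Nat.mul_le_mul_left _ ((card_le_card_of_injOn g (fun w hw => by simpa [hg] using hw)
        g.injective.injOn).trans hS))
    refine (card_le_card_of_injOn (fun s => s 1) (fun s hs => ?_) fun s hs s' hs' e => ?_).trans
      (card_orth_le h5 hQ (x := w) (by rw [(mem_filter.1 hw).2]; exact hc) hc')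
    · obtain ⟨h6, rfl⟩ := mem_filter.1 (mem_coe.1 hs)
      simpa using (mem_filter.1 h6).2.2
    · funext j
      fin_cases j
      · exact (mem_filter.1 (mem_coe.1 hs)).2.trans (mem_filter.1 (mem_coe.1 hs')).2.symm
      · exact e

end H20.MR
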