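import Cfsg.Agent.Lib.MinRep.Tr
import Cfsg.Agent.Lib.Char.Basic

/-! The smallest degrees of complex representations of symplectic groups in characteristic two. -/

set_option autoImplicit false
set_option linter.unusedSectionVars false

namespace H20.MR

open Module H28 H97 H20.MD
open scoped Classical

universe u v w

theorem nt_of_irr {F V : Type*} [Field F] [AddCommGroup V] [Module F V] [FiniteDimensional F V]
    {σ : F →+* F} {P : PQ F V σ} {M : Type*} [AddCommGroup M] [Module ℂ M]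
    (hP : ∀ H : Subgroup (V ≃ₗ[F] V), (∀ e, P.q e ∈ P.Λ → ZF P H e) → EG P ≤ H)
    {ρ : Representation ℂ (EG P) M} (hρ : ρ.IsIrreducible) (h2 : 2 ≤ finrank ℂ M) : NT ρ := by
  by_contra hn
  have h1 := hP (ρ.ker.map (EG P).subtype) fun e he l hl => ⟨(tr he ⟨l, hl⟩).1,
    ⟨_, LinearMap.ext fun v => by_contra fun h => hn ⟨e, he, ⟨l, hl⟩, v, h⟩, rfl⟩, tr_eu he _⟩
  have := H63.CrossChar.finrank_le_one_of_trivial ρ hρ fun g => by
    obtain ⟨k, hk, e⟩ := h1 g.2
    rwa [← show k = g from Subtype.ext e]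
  omega

variable {F : Type u} [Field F] [Finite F]

/-- The character given by the absolute trace in characteristic two. -/
structure Psi (ψ : AddChar F ℂ) : Prop where
  sq : ∀ x, ψ (x * x) = ψ x
  ker : ∀ x, ψ x = 1 → ∃ u, x = u * u + u
  surj : ∀ χ : AddChar F ℂ, ∃ κ, ∀ t, χ t = ψ (κ * t)
  nd : ∀ a, (∀ t, ψ (a * t) = 1) → a = 0

theorem exists_Psi (h2 : (2 : F) = 0) : ∃ ψ : AddChar F ℂ, Psi ψ := by
  let p : F →+ F := ⟨⟨fun u => u * u + u, by simp⟩, fun a b => by linear_combination a * b * h2⟩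
  have h1 : Nat.card p.ker = 2 := by
    rw [Nat.card_eq_two_iff' (0 : p.ker)]
    refine ⟨⟨1, show (1 : F) * 1 + 1 = 0 by linear_combination h2⟩, fun e => one_ne_zero (congrArg Subtype.val e),
      fun y hy => Subtype.ext ?_⟩
    have h3 : y.1 * (y.1 - 1) = 0 := by
      have : y.1 * y.1 + y.1 = 0 := y.2
      linear_combination this - y.1 * h2
    exact sub_eq_zero.1 ((mul_eq_zero.1 h3).resolve_left fun e => hy (Subtype.ext e))
  have h3 : p.range.index = 2 := by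
    have h4 := p.ker.card_mul_index
    have h5 := p.range.card_mul_index
    rw [AddSubgroup.index_ker, h1, ← h5, mul_comm] at h4
    exact (Nat.eq_of_mul_eq_mul_left Nat.card_pos h4).symm
  obtain ⟨l, hl⟩ : ∃ l, l ∉ p.range := by
    by_contra h
    push Not at h
    rw [(AddSubgroup.eq_top_iff' _).2 h, AddSubgroup.index_top] at h3
    omega
  obtain ⟨κ, hκ, hκ'⟩ := exists_psi_sep p.range hl
  have hκ0 : κ ≠ 0 := fun e => hκ' (by simp [e])
  refine ⟨(psi F).mulShift κ, fun x => ?_, fun x hx => ?_, fun χ => ?_, fun a ha => ?_⟩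
  · simp only [AddChar.mulShift_apply]
    rw [show κ * (x * x) = κ * (x * x + x) + κ * x by linear_combination -κ * x * h2,
      AddChar.map_add_eq_mul, hκ (x * x + x) ⟨x, rfl⟩, one_mul]
  · by_contra h
    have h4 : x + l ∈ p.range := (AddSubgroup.add_mem_iff_of_index_two h3).2
      ⟨fun ⟨u, hu⟩ => (h ⟨u, hu.symm⟩).elim, fun h5 => (hl h5).elim⟩
    have := hκ _ h4
    rw [AddChar.mulShift_apply] at hx
    rw [mul_add, AddChar.map_add_eq_mul, hx, one_mul] at this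
    exact hκ' this
  · obtain ⟨μ, hμ⟩ := exists_eq_psi χ
    exact ⟨κ⁻¹ * μ, fun t => by rw [hμ, AddChar.mulShift_apply]; congr 1; field_simp⟩
  · refine (mul_eq_zero.1 (eq_zero_of_psi (a := κ * a) fun t => ?_)).resolve_left hκ0
    rw [← ha t, AddChar.mulShift_apply]
    congr 1
    ring

theorem exists_sqrt (h2 : (2 : F) = 0) (a : F) : ∃ s, s * s = a :=
  Finite.surjective_of_injective (f := fun s : F => s * s) (fun a b e => by
    have : (a - b) * (a - b) = 0 := by linear_combination e + (b * b - a * b) * h2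
    exact sub_eq_zero.1 (mul_self_eq_zero.1 this)) a

theorem le_of_gauss {W : Type*} [Fintype W] (θ : W → ℂ) (h : ∀ w, θ w * θ w = 1) {n : ℕ}
    (hn : Fintype.card W = n * n) (hs : (∑ w, θ w) * ∑ w, θ w = Fintype.card W) :
    n * n ≤ 2 * Fintype.card {w // θ w = 1} + n := by
  have h1 : ∑ w, θ w = 2 * (Fintype.card {w // θ w = 1} : ℂ) - Fintype.card W := by
    have : ∀ w, θ w = 2 * (if θ w = 1 then 1 else 0) - 1 := fun w => by
      rcases mul_self_eq_one_iff.1 (h w) with e | e <;> rw [e] <;> norm_num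
    rw [Finset.sum_congr rfl fun w _ => this w, Finset.sum_sub_distrib, ← Finset.mul_sum,
      Finset.sum_boole, Fintype.card_subtype]
    simp
  rw [h1, hn] at hs
  generalize Fintype.card {w // θ w = 1} = a at hs
  have h2 : (2 * (a : ℤ) - n * n) * (2 * a - n * n) = n * n := by exact_mod_cast hs
  rcases mul_self_eq_mul_self_iff.1 h2 with e | e <;> omega

section Step

variable {V : Type v} [AddCommGroup V] [Module F V] [FiniteDimensional F V] [Finite V]
  {P : PQ F V (RingHom.id F)} {d f : V}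
  {M : Type w} [AddCommGroup M] [Module ℂ M] [FiniteDimensional ℂ M] {ρ : Representation ℂ (EG P) M}

/-- Elements of the unipotent radical in the symplectic case. -/
def hs (o : Symp P) (w : Wp P d f) (c : F) : Heis P d f := ⟨w, c, o.mem _⟩

theorem hs_mul (o : Symp P) (w w' : Wp P d f) (c c' : F) :
    hs o w c * hs o w' c' = hs o (w + w') (c + c' + P.B w w') := rfl

theorem toG_hs (o : Symp P) (h : Pair P d f) (c : F) : h.toG (hs o 0 c) = tr h.hd ⟨c, o.mem c⟩ :=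
  toG_cen h ⟨c, o.mem c⟩

theorem toG_tr (o : Symp P) (h : Pair P d f) (y w : Wp P d f) (l : P.Λ) (c : F) :
    h.toG (hs o w c) * tr (o.mem (P.q y)) l =
      tr (o.mem (P.q y)) l * h.toG (hs o (w - ((l : F) * P.B y w) • y) c) := EG_ext fun x => by
  simp only [EG_mul_apply, tr_apply, h.toG_apply, hs, o.eu, o.eps, Submodule.coe_sub, Submodule.coe_smul,
    map_add, map_sub, map_smul, LinearMap.sub_apply, LinearMap.smul_apply, W_d, W_d', o.alt, o.skew y w,
    smul_eq_mul]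
  module

theorem heis_comm (o : Symp P) (h2 : (2 : F) = 0) (x y : Heis P d f) : x * y = y * x :=
  Heis.ext (add_comm _ _) (by
    rw [Heis.mul_c, Heis.mul_c, o.skew x.w y.w]
    linear_combination P.B x.w y.w * h2)

variable {ψ : AddChar F ℂ} {φ : Heis P d f →* ℂ} {m : F}

theorem phi_split (o : Symp P) (hm : ∀ c, φ (hs o 0 c) = ψ (m * m * c)) (w : Wp P d f) (c : F) :
    φ (hs o w c) = φ (hs o w 0) * ψ (m * m * c) := by
  rw [← hm, ← map_mul, hs_mul]
  simp

theorem exists_kappa (o : Symp P) (hψ : Psi ψ) (φ : Heis P d f →* ℂ) (y : Wp P d f) :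
    ∃ κ, ∀ a : F, φ (hs o (a • y) 0) = ψ (κ * a) :=
  hψ.surj ⟨fun a => φ (hs o (a • y) 0), by rw [zero_smul]; exact φ.map_one, fun a b => by
    rw [← map_mul, hs_mul, add_smul]; simp [o.alt]⟩

theorem eigen_tr (o : Symp P) (h2 : (2 : F) = 0) (hψ : Psi ψ) (h : Pair P d f)
    (hm : ∀ c, φ (hs o 0 c) = ψ (m * m * c)) {u : M} (hu : ∀ x, ρ (h.toG x) u = φ x • u)
    {y : Wp P d f} {κ : F} (hκ : ∀ a : F, φ (hs o (a • y) 0) = ψ (κ * a)) {l : P.Λ} {s : F}
    (hl : s * s = l) (x : Heis P d f) : ρ (h.toG x) (ρ (tr (o.mem (P.q y)) l) u) =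
      (φ x * ψ ((κ * (s * s) + m * s) * P.B y x.w)) • ρ (tr (o.mem (P.q y)) l) u := by
  rw [← rho_mul, show x = hs o x.w x.c from rfl, toG_tr, rho_mul, hu, map_smul]
  congr 1
  have e : hs o (x.w - ((l : F) * P.B y x.w) • y) x.c = hs o x.w x.c *
      hs o ((s * s * P.B y x.w) • y) ((s * P.B y x.w) * (s * P.B y x.w)) := by
    rw [hs_mul, ← hl]
    congr 1
    · rw [sub_eq_add_neg, ← neg_smul]
      congr 2
      linear_combination -(s * s * P.B y x.w) * h2
    · simp only [Submodule.coe_smul, map_smul, o.skew y x.w, smul_eq_mul]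
      ring
  rw [e, map_mul, phi_split o hm (_ • y), hκ, show m * m * ((s * P.B y x.w) * (s * P.B y x.w)) =
    (m * s * P.B y x.w) * (m * s * P.B y x.w) by ring, hψ.sq, ← AddChar.map_add_eq_mul]
  congr 2
  change _ = _ * P.B y x.w
  ring

theorem twist_inj (o : Symp P) (hψ : Psi ψ) (h : Pair P d f) (φ : Heis P d f →* ℂ) {y y' : Wp P d f}
    (e : ∀ x : Heis P d f, φ x * ψ (P.B y x.w) = φ x * ψ (P.B y' x.w)) : y = y' := by
  refine sub_eq_zero.1 (h.nd o.nd _ fun w => hψ.nd _ fun t => ?_)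
  have h1 := mul_left_cancel₀ (((Group.isUnit _).map φ).ne_zero) (e (hs o (t • w) 0))
  simp only [hs, Submodule.coe_smul, map_smul, smul_eq_mul] at h1
  rw [Pw_B, Submodule.coe_sub, map_sub, LinearMap.sub_apply, sub_mul, AddChar.map_sub_eq_div,
    mul_comm _ t, mul_comm _ t, h1, div_self (chi_ne_zero _ _)]

theorem exists_phi (o : Symp P) (h2 : (2 : F) = 0) (hψ : Psi ψ) (h : Pair P d f) {l : P.Λ} {v : M}
    (hv : ρ (tr h.hd l) v ≠ v) : ∃ (χ : AddChar P.Λ ℂ) (φ : Heis P d f →* ℂ) (m : F) (u : M),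
      χ l ≠ 1 ∧ m ≠ 0 ∧ (∀ c, φ (hs o 0 c) = ψ (m * m * c)) ∧ u ∈ wt ρ (tr h.hd) χ ∧ u ≠ 0 ∧
        ∀ x, ρ (h.toG x) u = φ x • u := by
  obtain ⟨χ, hχ, u, -, h0, hu⟩ := exists_wt_ne (ρ := ρ) (tr_add h.hd) (N := ⊤) (fun _ _ _ => trivial)
    trivial hv
  obtain ⟨φ, u', h3, h4, h5⟩ := exists_eigen (heis_comm o h2) h.toG
    (fun x => fix_inv h.hd (toG_d h x)) hu h0
  obtain ⟨μ, hμ⟩ := hψ.surj ⟨fun c => φ (hs o 0 c), φ.map_one, fun a b => by
    rw [← map_mul, hs_mul]; simp⟩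
  obtain ⟨m, rfl⟩ := exists_sqrt h2 μ
  refine ⟨χ, φ, m, u', hχ, fun e => hχ ?_, hμ, h3, h4, h5⟩
  have h6 := h5 (hs o 0 l)
  rw [toG_hs, h3, show φ (hs o 0 l) = _ from hμ l, e] at h6
  simpa using smul_left_injective ℂ h4 h6

theorem wt_bound (o : Symp P) (h2 : (2 : F) = 0) (hψ : Psi ψ) (h : Pair P d f) {χ : AddChar P.Λ ℂ}
    (hm0 : m ≠ 0) (hm : ∀ c, φ (hs o 0 c) = ψ (m * m * c)) {u : M} (hu1 : u ∈ wt ρ (tr h.hd) χ)
    (hu0 : u ≠ 0) (hu : ∀ x, ρ (h.toG x) u = φ x • u) {n : ℕ} (hn : Nat.card (Wp P d f) = n * n) :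
    n * n ≤ 2 * finrank ℂ (wt ρ (tr h.hd) χ) + n := by
  have := Fintype.ofFinite (Wp P d f)
  have hθ : ∀ w w' : Wp P d f, φ (hs o w 0) * φ (hs o (w + w') 0) =
      φ (hs o w' 0) * ψ (m * m * P.B w w') := fun w w' => by
    rw [← map_mul, hs_mul, ← phi_split o hm, ← add_assoc, ← two_smul F w, h2]
    simp [o.alt]
  have h0 : φ (hs o 0 0) = 1 := φ.map_one
  refine (le_of_gauss (fun w : Wp P d f => φ (hs o w 0)) (fun w => by simpa [h0] using hθ w 0)
    (by rw [← hn, Nat.card_eq_fintype_card]) ?_).trans (Nat.add_le_add_right (Nat.mul_le_mul_left _ ?_) _)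
  · rw [Finset.sum_mul_sum]
    simp only [fun w : Wp P d f => (Equiv.sum_comp (Equiv.addLeft w)
      fun w' => φ (hs o w 0) * φ (hs o w' 0)).symm, Equiv.coe_addLeft, hθ]
    rw [Finset.sum_comm, Finset.sum_eq_single 0 (fun w' _ hw => ?_) (by simp)]
    · simp [h0]
    · let η : AddChar (Wp P d f) ℂ := ⟨fun w => ψ (m * m * P.B w w'), by simp, fun a b => by
        simp [mul_add, AddChar.map_add_eq_mul]⟩
      rw [← Finset.mul_sum, show ∑ w : Wp P d f, ψ (m * m * P.B w w') = ∑ w, η w from rfl,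
        AddChar.sum_eq_ite, if_neg, mul_zero]
      refine fun e => hw (h.nd o.nd _ fun w => ?_)
      refine (mul_eq_zero.1 (hψ.nd (m * m * P.B w' w) fun t => ?_)).resolve_left (mul_ne_zero hm0 hm0)
      have : ψ (m * m * P.B ((-t) • w : Wp P d f) w') = 1 := DFunLike.congr_fun e ((-t) • w)
      rw [← this, Submodule.coe_smul, B_smul_left, o.skew w' w]
      simp [mul_comm, mul_left_comm]
  · refine card_le_of_eigen (fun x => ρ (h.toG x))
      (fun (y : {w : Wp P d f // φ (hs o w 0) = 1}) x => φ x * ψ (P.B ((m * m) • y.1 : Wp P d f) x.w))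
      (fun y y' e => Subtype.ext (smul_right_injective _ (mul_ne_zero hm0 hm0)
        (twist_inj o hψ h φ (congrFun e)))) fun y => ?_
    obtain ⟨κ, hκ⟩ := exists_kappa o hψ φ y.1
    obtain ⟨s, hs⟩ : ∃ s, κ * (s * s) + m * s = m * m := by
      by_cases h3 : κ = 0
      · exact ⟨m, by simp [h3]⟩
      · obtain ⟨t, ht⟩ := hψ.ker κ (by simpa [y.2] using (hκ 1).symm)
        exact ⟨m * t / κ, by field_simp; linear_combination -ht⟩
    refine ⟨ρ (tr (o.mem (P.q y.1)) ⟨s * s, o.mem _⟩) u, fix_inv h.hd (tr_fix _ _ (W_d' _)) _ hu1,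
      rho_ne_zero _ _ hu0, fun x => ?_⟩
    rw [eigen_tr o h2 hψ h hm hu hκ rfl, hs, Submodule.coe_smul, B_smul_left]
    rfl

theorem step_sp (o : Symp P) (h2 : (2 : F) = 0) (h : Pair P d f) {l : P.Λ} {v : M}
    (hv : ρ (tr h.hd l) v ≠ v) {n : ℕ} (hn : Nat.card (Wp P d f) = n * n) : ∃ c, n * n ≤ 2 * c + n ∧
      finrank ℂ (wt ρ (tr h.hd) 1) + (Nat.card F - 1) * c ≤ finrank ℂ M := by
  have := Fintype.ofFinite F
  obtain ⟨ψ, hψ⟩ := exists_Psi h2
  obtain ⟨χ, φ, m, u, h1, h3, h4, h5, h6, h7⟩ := exists_phi o h2 hψ h hv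
  refine ⟨_, wt_bound o h2 hψ h h3 h4 h5 h6 h7 hn, ?_⟩
  have h1 := step (ρ := ρ) (fun _ _ _ _ => o.mem _) h.hd (N := ⊤) (fun _ _ _ => trivial)
    (Finset.univ.erase 0) (fun s hs => by
      obtain ⟨a, rfl⟩ := exists_sqrt h2 s
      have ha : a ≠ 0 := fun e => Finset.ne_of_mem_erase hs (by simp [e])
      obtain ⟨g, hg, -⟩ := o.exists_tor h ha
      exact ⟨g, a, ha, hg.gd, rfl, fun _ _ => trivial⟩) (χ := χ) fun e => h1 (by rw [e]; rfl)
  rwa [top_inf_eq, top_inf_eq, finrank_top, Finset.card_erase_of_mem (Finset.mem_univ _),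
    Finset.card_univ, ← Nat.card_eq_fintype_card] at h1

theorem move_sp (o : Symp P) (h2 : (2 : F) = 0) (hn : 5 ≤ finrank F V) (hρ : NT ρ) :
    ∃ (e f : V) (h : Pair P e f) (r : Wp P e f) (hr : P.q r ∈ P.Λ) (l : P.Λ) (v : M),
      v ∈ wt ρ (tr h.hd) 1 ∧ ρ (tr hr l) v ≠ v := by
  obtain ⟨d, hd, l₀, v₀, h0⟩ := hρ
  obtain ⟨f, h⟩ := o.exists_pair (ne_zero_of_nt h0)
  obtain ⟨ψ, hψ⟩ := exists_Psi h2
  obtain ⟨χ, φ, m, u, h1, h3, h4, h5, h6, h7⟩ := exists_phi o h2 hψ h h0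
  obtain ⟨r, r', hr⟩ := o.exists_W h (by omega)
  have h' : Pair (Pw P d f) r r' := ⟨o.mem _, o.mem _, hr⟩
  obtain ⟨t, t', ht⟩ := (o.pw h).exists_W h' (by have := h.finrank_W; omega)
  obtain ⟨κ, hκ⟩ := exists_kappa o hψ φ r
  obtain ⟨κ', hκ'⟩ := exists_kappa o hψ φ t.1
  obtain ⟨y, hy, hy'⟩ : ∃ y : Wp P d f, y ≠ 0 ∧ ∀ a : F, φ (hs o (a • y) 0) = ψ (0 * a) := by
    by_cases h8 : κ = 0
    · exact ⟨r, h'.d_ne, h8 ▸ hκ⟩
    · refine ⟨(-(κ' / κ)) • r + t.1, fun e => ?_, fun a => ?_⟩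
      · rw [(h'.smul_d_add_eq_zero e).2] at ht
        simp at ht
      · have h9 : P.B r t.1 = 0 := W_d t
        have : hs o (a • ((-(κ' / κ)) • r + t.1)) 0 = hs o ((a * -(κ' / κ)) • r) 0 * hs o (a • t.1) 0 := by
          rw [hs_mul, smul_add, smul_smul]
          simp [h9]
        rw [this, map_mul, hκ, hκ', ← AddChar.map_add_eq_mul]
        congr 1
        field_simp
        ring
  obtain ⟨y', hyy⟩ := exists_B_eq (h.nd o.nd) hy 1
  choose s hs using exists_sqrt h2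
  refine ⟨y, y', ⟨o.mem _, o.mem _, hyy⟩, ⟨d, W_d' y, W_d' y'⟩, hd, l₀, pr ρ (tr (o.mem (P.q y))) 1 u,
    pr_mem_wt (tr_add _) u, fun e => h1 ?_⟩
  have h8 := pr_mem (x := tr (o.mem (P.q y))) (χ := 1)
    (fun l => fix_inv h.hd (tr_fix (o.mem (P.q y)) l (W_d' _))) h5 l₀
  refine (smul_eq_self_iff (pr_ne_zero (x := tr (o.mem (P.q y))) (χ := 1) (fun x => ρ (h.toG x))
    (fun l x => φ x * ψ (P.B ((m * s l) • y : Wp P d f) x.w)) (fun l l' e => ?_) h6 fun l x => ?_)).1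
    (h8.symm.trans e)
  · have := mul_left_cancel₀ h3 (smul_left_injective F hy (twist_inj o hψ h φ (congrFun e)))
    exact Subtype.ext (by rw [← hs l, this, hs])
  · rw [eigen_tr o h2 hψ h h4 h7 hy' (hs l), Submodule.coe_smul, B_smul_left]
    simp

end Step

theorem main_sp (h2 : (2 : F) = 0) (k : ℕ) : ∀ {V : Type v} [AddCommGroup V] [Module F V]
    [FiniteDimensional F V] [Finite V] {P : PQ F V (RingHom.id F)} (_ : Symp P)
    (_ : finrank F V = 2 * (k + 2)) {M : Type w} [AddCommGroup M] [Module ℂ M]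
    [FiniteDimensional ℂ M] {ρ : Representation ℂ (EG P) M} (_ : NT ρ),
    Nat.card F ^ (k + 2) * Nat.card F ^ (k + 2) + Nat.card F ≤
      2 * (Nat.card F + 1) * finrank ℂ M + (Nat.card F + 1) * Nat.card F ^ (k + 2) := by
  have key : ∀ {x a b c : ℕ}, x * x + Nat.card F ≤ 2 * (Nat.card F + 1) * a + (Nat.card F + 1) * x →
      x * x ≤ 2 * c + x → a + (Nat.card F - 1) * c ≤ b → x * Nat.card F * (x * Nat.card F) + Nat.card F ≤
        2 * (Nat.card F + 1) * b + (Nat.card F + 1) * (x * Nat.card F) := by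
    intro x a b c h1 h2 h3
    obtain ⟨p, hp⟩ : ∃ p, Nat.card F = p + 1 := ⟨Nat.card F - 1, by have := Nat.card_pos (α := F); omega⟩
    rw [hp] at h1 h3 ⊢
    rw [Nat.add_sub_cancel] at h3
    nlinarith [Nat.mul_le_mul_left (p * (p + 2)) h2, Nat.mul_le_mul_left (2 * (p + 2)) h3]
  have hW : ∀ {V : Type v} [AddCommGroup V] [Module F V] [FiniteDimensional F V] [Finite V]
      {P : PQ F V (RingHom.id F)} {d f : V} (_ : Pair P d f) {k : ℕ} (_ : finrank F V = 2 * (k + 1)),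
      Nat.card (Wp P d f) = Nat.card F ^ k * Nat.card F ^ k := fun h k hk => by
    rw [card_space (F := F), ← pow_add]
    congr 1
    have := h.finrank_W
    omega
  induction k with
  | zero =>
    intro V _ _ _ _ P o hn M _ _ _ ρ ⟨d, hd, l, v, hv⟩
    obtain ⟨f, h⟩ := o.exists_pair (ne_zero_of_nt hv)
    obtain ⟨c, h3, h4⟩ := step_sp o h2 h hv (hW h hn)
    exact key (x := Nat.card F ^ 1)
      (by nlinarith [Nat.zero_le (2 * (Nat.card F + 1) * finrank ℂ (wt ρ (tr h.hd) 1))]) h3 h4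
  | succ k ih =>
    intro V _ _ _ _ P o hn M _ _ _ ρ hρ
    obtain ⟨e, f, h, r, hr, l, v, hv, hl⟩ := move_sp o h2 (by omega) hρ
    obtain ⟨g, hg, e1⟩ := o.exists_apply_eq (ne_zero_of_nt hl) h.d_ne
    obtain ⟨c, h3, h4⟩ := step_sp o h2 h (nt_move hl h.hd (g := ⟨g, hg⟩) e1) (hW h hn)
    exact key (ih (o.pw h) (by have := h.finrank_W; omega) (nt_sub h hr hv hl)) h3 h4

theorem sp_even_bound {F : Type u} [Field F] [Fintype F] (h2 : (2 : F) = 0) {k : ℕ} {M : Type w}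
    [AddCommGroup M] [Module ℂ M] [FiniteDimensional ℂ M]
    (ρ : Representation ℂ (Matrix.symplecticGroup (Fin (k + 2)) F) M) (hρ : ρ.IsIrreducible)
    (hM : 2 ≤ finrank ℂ M) : (Nat.card F ^ (k + 2) - 1) * (Nat.card F ^ (k + 2) - Nat.card F) ≤
      2 * (Nat.card F + 1) * finrank ℂ M := by
  have o := symp_spPQ (F := F) (k + 2)
  have hn := finrank_sp (F := F) (k + 2)
  have h := main_sp h2 k o hn (nt_of_irr (fun H hH => o.EG_le_of_zf (by omega) fun e => hH e (o.mem _))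
    ((H6.isIrreducible_comp_surjective ρ (spEG (k + 2)).symm.toMonoidHom
      (spEG (k + 2)).symm.surjective).2 hρ) hM)
  have h1 : 1 ≤ Nat.card F := Nat.card_pos
  have h3 : Nat.card F ≤ Nat.card F ^ (k + 2) := Nat.le_self_pow (by omega) _
  zify [h3, h1.trans h3] at h ⊢
  linarith

theorem force_eq_spEven : True := by
  have := @hs.eq_1.{0,0}
  have := @hs.eq_def.{0,0}
  trivial

end H20.MR
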