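import Cfsg.Agent.Lib.MinRep.SpEven
import Cfsg.Agent.Lib.MinRep.Div

/-! Complex representations of symplectic groups in odd characteristic in which only weights of
rank at most one occur. -/

set_option autoImplicit false
set_option linter.unusedSectionVars false

namespace H20.MR

open Module H28 H97 H20.MD
open scoped Classical

section Gen

variable {G M : Type*} [Group G] [AddCommGroup M] [Module ℂ M] (ρ : Representation ℂ G M)

/-- The stabiliser of a finite-dimensional subspace. -/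
def stb [FiniteDimensional ℂ M] (T : Submodule ℂ M) : Subgroup G where
  carrier := {g | ∀ v ∈ T, ρ g v ∈ T}
  one_mem' v hv := by rwa [rho_one]
  mul_mem' ha hb v hv := by rw [rho_mul]; exact ha _ (hb _ hv)
  inv_mem' {g} hg v hv := by
    obtain ⟨u, hu⟩ := (LinearMap.injective_iff_surjective (f := (ρ g).restrict hg)).1
      (fun a b e => Subtype.ext (rho_injective ρ g (congrArg Subtype.val e))) ⟨v, hv⟩
    rw [← show ρ g u = v from congrArg Subtype.val hu, rho_inv_self]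
    exact u.2

theorem char_eq_of_graph {M' : Type*} [AddCommGroup M'] [Module ℂ M'] [FiniteDimensional ℂ M]
    [FiniteDimensional ℂ M'] {ρ : Representation ℂ G M} {ρ' : Representation ℂ G M'}
    (h : ρ.IsIrreducible) (h' : ρ'.IsIrreducible) (N : Submodule ℂ (M × M'))
    (hN : ∀ g, ∀ u ∈ N, (ρ.prod ρ') g u ∈ N) {v : M} {v' : M'} (hv : v ≠ 0) (hv' : v' ≠ 0)
    (h1 : (v, v') ∈ N) (h2 : (v, 0) ∉ N) : ρ.character = ρ'.character := by
  have i1 := ((H6.isIrreducible_iff ρ).1 h).2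
  have i2 := ((H6.isIrreducible_iff ρ').1 h').2
  have a1 : N.comap (LinearMap.inl ℂ M M') = ⊥ :=
    (i1 _ fun g a ha => by simpa using hN g _ ha).resolve_right fun e =>
      h2 (show v ∈ N.comap (LinearMap.inl ℂ M M') from e ▸ Submodule.mem_top)
  have a2 : N.comap (LinearMap.inr ℂ M M') = ⊥ :=
    (i2 _ fun g a ha => by simpa using hN g _ ha).resolve_right fun e => h2 (by
      have : (0, v') ∈ N := show v' ∈ N.comap (LinearMap.inr ℂ M M') from e ▸ Submodule.mem_top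
      simpa using N.sub_mem h1 this)
  have b1 : N.map (LinearMap.fst ℂ M M') = ⊤ :=
    (i1 _ (by rintro g _ ⟨u, hu, rfl⟩; exact ⟨_, hN g u hu, rfl⟩)).resolve_left fun e =>
      hv (show v ∈ (⊥ : Submodule ℂ M) from e ▸ ⟨_, h1, rfl⟩)
  have b2 : N.map (LinearMap.snd ℂ M M') = ⊤ :=
    (i2 _ (by rintro g _ ⟨u, hu, rfl⟩; exact ⟨_, hN g u hu, rfl⟩)).resolve_left fun e =>
      hv' (show v' ∈ (⊥ : Submodule ℂ M') from e ▸ ⟨_, h1, rfl⟩)
  let p := LinearEquiv.ofBijective (LinearMap.fst ℂ M M' ∘ₗ N.subtype)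
    ⟨(injective_iff_map_eq_zero _).2 fun ⟨⟨a, b⟩, hu⟩ e => by
      obtain rfl : a = 0 := e
      have : b ∈ N.comap (LinearMap.inr ℂ M M') := hu
      rw [a2] at this
      exact Subtype.ext (Prod.ext rfl this), fun a => by
      obtain ⟨u, hu, e⟩ : a ∈ N.map (LinearMap.fst ℂ M M') := b1 ▸ Submodule.mem_top
      exact ⟨⟨u, hu⟩, e⟩⟩
  let p' := LinearEquiv.ofBijective (LinearMap.snd ℂ M M' ∘ₗ N.subtype)
    ⟨(injective_iff_map_eq_zero _).2 fun ⟨⟨a, b⟩, hu⟩ e => by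
      obtain rfl : b = 0 := e
      have : a ∈ N.comap (LinearMap.inl ℂ M M') := hu
      rw [a1] at this
      exact Subtype.ext (Prod.ext this rfl), fun a => by
      obtain ⟨u, hu, e⟩ : a ∈ N.map (LinearMap.snd ℂ M M') := b2 ▸ Submodule.mem_top
      exact ⟨⟨u, hu⟩, e⟩⟩
  funext g
  let T := ((ρ.prod ρ') g).restrict (hN g)
  have e1 : ρ g = p.conj T := LinearMap.ext fun a => by
    obtain ⟨u, rfl⟩ := p.surjective a
    rw [LinearEquiv.conj_apply_apply, p.symm_apply_apply]; rfl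
  have e2 : ρ' g = p'.conj T := LinearMap.ext fun a => by
    obtain ⟨u, rfl⟩ := p'.surjective a
    rw [LinearEquiv.conj_apply_apply, p'.symm_apply_apply]; rfl
  change LinearMap.trace ℂ M (ρ g) = LinearMap.trace ℂ M' (ρ' g)
  rw [e1, e2, LinearMap.trace_conj', LinearMap.trace_conj']

theorem wt_prod {M' : Type*} [AddCommGroup M'] [Module ℂ M'] {ρ : Representation ℂ G M}
    {ρ' : Representation ℂ G M'} {A : Type*} [AddCommGroup A] {x : A → G} {χ : AddChar A ℂ} {u : M × M'} :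
    u ∈ wt (ρ.prod ρ') x χ ↔ u.1 ∈ wt ρ x χ ∧ u.2 ∈ wt ρ' x χ :=
  ⟨fun h => ⟨fun a => congrArg Prod.fst (h a), fun a => congrArg Prod.snd (h a)⟩,
    fun h a => Prod.ext (h.1 a) (h.2 a)⟩

end Gen

variable {F V : Type*} [Field F] [Fintype F] [AddCommGroup V] [Module F V] [FiniteDimensional F V]
  {P : PQ F V (RingHom.id F)}

/-- The additive characters of the field. -/
noncomputable def lam (c : F) : AddChar F ℂ := (psi F).mulShift c

theorem lam_apply (c l : F) : lam c l = psi F (c * l) := AddChar.mulShift_apply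

theorem lam_inj {c c' : F} (h : lam c = lam c') : c = c' := sub_eq_zero.1 (eq_zero_of_psi fun t => by
  have := DFunLike.congr_fun h t
  rw [lam_apply, lam_apply] at this
  rw [mul_sub, AddChar.map_sub_eq_div, mul_comm, this, mul_comm, div_self (chi_ne_zero _ _)])

theorem exists_lam (χ : AddChar F ℂ) : ∃ c, χ = lam c :=
  (exists_eq_psi χ).imp fun c h => DFunLike.ext _ _ fun t => by rw [h, lam_apply]

theorem lam_zero : lam (0 : F) = 1 := AddChar.mulShift_zero _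

variable (o : Symp P)

/-- The elements of the unipotent radical of the stabiliser of `x`. -/
noncomputable def sv (x y : V) (c : F) : EG P :=
  if h : P.B x y = 0 then euG (o.mem (P.q x)) h (o.mem (c - P.q y)) else 1

/-- The transvections. -/
noncomputable def tv (x : V) (l : F) : EG P := sv o x 0 l

/-- The short root groups. -/
noncomputable def sa (x y : V) (a : F) : EG P := sv o x (a • y) 0

/-- Minus the identity. -/
def ng : EG P := ⟨LinearEquiv.neg F, o.isom_le ⟨fun x y => by simp, fun _ => o.mem _⟩⟩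

variable {x y y' z d r : V}

theorem sv_apply (h : P.B x y = 0) (c : F) (v : V) :
    (sv o x y c).1 v = v + (P.B y v + c * P.B x v) • x + P.B x v • y := by
  rw [sv, dif_pos h, euG_apply, o.eu]

theorem euG_apply_sv (h : P.B x y = 0) (c : F) (v : V) : (sv o x y c).1 v = eu P x y c v := by
  rw [sv_apply o h, o.eu]

theorem tv_apply (x : V) (l : F) (v : V) : (tv o x l).1 v = v + (l * P.B x v) • x := by
  simp [tv, sv_apply o (map_zero _)]

theorem ng_apply (v : V) : (ng o).1 v = -v := rfl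

theorem tv_tr (x : V) (l : F) : tv o x l = tr (o.mem (P.q x)) ⟨l, o.mem l⟩ :=
  EG_ext fun v => by rw [tv_apply, tr_apply, o.eps]; module

theorem perp_smul (h : P.B x y = 0) (a : F) : P.B x (a • y) = 0 := by simp [h]

theorem sv_mul (h : P.B x y = 0) (h' : P.B x y' = 0) (c c' : F) :
    sv o x y c * sv o x y' c' = sv o x (y + y') (c + c' + P.B y y') := EG_ext fun v => by
  simp only [EG_mul_apply, sv_apply o h, sv_apply o h', sv_apply o (show P.B x (y + y') = 0 by simp [h, h']),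
    map_add, map_smul, o.alt, h', o.skew x y, h, LinearMap.add_apply]
  module

theorem sv_conj (h : P.B x y = 0) (c : F) (g : EG P) :
    sv o (g.1 x) (g.1 y) c * g = g * sv o x y c := EG_ext fun v => by
  simp only [EG_mul_apply, sv_apply o h, sv_apply o ((EG_B g x y).trans h), EG_B, map_add, map_smul]

theorem sv_fix (h : P.B x y = 0) (c : F) : (sv o x y c).1 x = x := by
  simp [sv_apply o h, o.alt, o.skew x y, h]

theorem sv_symm (h : P.B x y = 0) : sv o x y 0 = sv o y x 0 := EG_ext fun v => by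
  rw [sv_apply o h, sv_apply o (P.eq_zero_symm h)]; module

theorem sv_smul (h : P.B x y = 0) (a : F) : sv o (a • x) y 0 = sv o x (a • y) 0 := EG_ext fun v => by
  rw [sv_apply o (perp_smul h a), sv_apply o (by simp [h])]
  simp only [map_smulₛₗ, RingHom.id_apply, LinearMap.smul_apply]
  module

theorem sv_self (x : V) (a c : F) : sv o x (a • x) c = tv o x (2 * a + c) := EG_ext fun v => by
  rw [sv_apply o (perp_smul (o.alt x) a), tv_apply]
  simp only [map_smulₛₗ, RingHom.id_apply, LinearMap.smul_apply]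
  module

theorem sv_split (h : P.B x y = 0) (c : F) : sv o x y c = sv o x y 0 * tv o x c := by
  simp [tv, sv_mul o h (map_zero _)]

theorem sv_comm (h : P.B x y = 0) (h' : P.B x y' = 0) (c c' : F) :
    sv o x y c * sv o x y' c' = sv o x y' c' * sv o x y c * tv o x (2 * P.B y y') := by
  rw [tv, sv_mul o h h', sv_mul o h' h, sv_mul o (by simp [h, h']) (map_zero _), o.skew y y', map_zero,
    add_zero, add_comm y']
  congr 1
  ring

theorem tv_add (x : V) (l l' : F) : tv o x (l + l') = tv o x l * tv o x l' := by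
  simp [tv, sv_mul o (map_zero _) (map_zero _)]

theorem sa_add (h : P.B x y = 0) (a a' : F) : sa o x y (a + a') = sa o x y a * sa o x y a' := by
  simp [sa, sv_mul o (perp_smul h a) (perp_smul h a'), o.alt, add_smul]

theorem tv_conj (g : EG P) (x : V) (l : F) : tv o (g.1 x) l * g = g * tv o x l := by
  simpa [tv] using sv_conj o (map_zero (P.B x)) l g

theorem tv_comm {g : EG P} (hg : g.1 x = x) (l : F) : tv o x l * g = g * tv o x l := by
  simpa [hg] using tv_conj o g x l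

theorem tv_smul (a : F) (x : V) (l : F) : tv o (a • x) l = tv o x (a * a * l) := EG_ext fun v => by
  simp only [tv_apply, map_smulₛₗ, RingHom.id_apply, LinearMap.smul_apply]
  module

theorem sa_comm (h : P.B x y = 0) {g : EG P} (hx : g.1 x = x) (hy : g.1 y = y) (a : F) :
    sa o x y a * g = g * sa o x y a := by
  simpa [sa, hx, hy] using sv_conj o (perp_smul h a) 0 g

theorem tv_fix (h : P.B x y = 0) (l : F) : (tv o x l).1 y = y := by simp [tv_apply, h]

theorem tv_shift (h : P.B d r = 0) (a l : F) :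
    tv o (r + a • d) l = tv o d (a * a * l) * sa o d r (l * a) * tv o r l := EG_ext fun v => by
  simp only [EG_mul_apply, sa, tv_apply, sv_apply o (perp_smul h _), map_add, map_smul, o.alt,
    h, LinearMap.add_apply, LinearMap.smul_apply]
  module

variable {M : Type*} [AddCommGroup M] [Module ℂ M] (ρ : Representation ℂ (EG P) M)

/-- Weight spaces of the long root groups. -/
noncomputable abbrev Ew (x : V) (c : F) : Submodule ℂ M := wt ρ (tv o x) (lam c)

/-- Weight spaces of the short root groups. -/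
noncomputable abbrev Sw (x y : V) (κ : F) : Submodule ℂ M := wt ρ (sa o x y) (lam κ)

/-- Only weights of rank at most one occur. -/
def R1 : Prop := ∀ d r, P.B d r = 0 → ∀ (a b c : F) (v : M), v ≠ 0 → v ∈ Ew o ρ d a → v ∈ Sw o ρ d r b →
  v ∈ Ew o ρ r c → b * b = 4 * a * c

variable {o ρ} {u v : M} {c κ : F} {g : EG P} {T : Submodule ℂ M}

theorem Ew_conj (hg : g.1 x = d) (hu : u ∈ Ew o ρ x c) : ρ g u ∈ Ew o ρ d c :=
  mem_wt_conj id (fun b => hg ▸ tv_conj o g x b) (fun _ => rfl) hu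

theorem Ew_smul (a : F) (hu : u ∈ Ew o ρ x c) : u ∈ Ew o ρ (a • x) (c * (a * a)) := fun l => by
  rw [tv_smul, hu, lam_apply, lam_apply, mul_assoc c]

theorem sv_shift (h : P.B d y = 0) (h' : P.B d y' = 0) (hu : u ∈ Ew o ρ d c) {s : ℂ}
    (hs : ρ (sv o d y 0) u = s • u) (a : F) :
    ρ (sv o d y 0) (ρ (sv o d y' a) u) = (s * psi F (c * (2 * P.B y y'))) • ρ (sv o d y' a) u := by
  rw [← rho_mul, sv_comm o h h', rho_mul, rho_mul, hu, map_smul, hs, map_smul, map_smul, smul_smul, lam_apply,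
    mul_comm]

theorem tv_inv (h : P.B x z = 0) (l : F) :
    ∀ v ∈ Ew o ρ x c ⊓ Sw o ρ x z κ, ρ (tv o z l) v ∈ Ew o ρ x c ⊓ Sw o ρ x z κ := fun _ hv =>
  ⟨Ew_conj (tv_fix o (P.eq_zero_symm h) l) hv.1,
    mem_wt_comm (sa_comm o h (tv_fix o (P.eq_zero_symm h) l) (tv_fix o (o.alt z) l)) hv.2⟩

theorem sa_inv (h : P.B x z = 0) (a : F) : ∀ v ∈ Ew o ρ x c, ρ (sa o x z a) v ∈ Ew o ρ x c := fun _ =>
  Ew_conj (sv_fix o (perp_smul h a) 0)

theorem R1.fix (hR : R1 o ρ) (h : P.B x z = 0) (hu : u ∈ Ew o ρ x 0) (a : F) : ρ (sv o x z a) u = u := by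
  have : u ∈ Sw o ρ x z 0 := by
    refine mem_of_wt (sa_add o h) (sa_inv h) (fun χ w hw hw' => ?_) hu
    obtain ⟨κ, rfl⟩ := exists_lam χ
    refine mem_of_wt (tv_add o z) (tv_inv h) (fun χ w hw hw' => ?_) ⟨hw, hw'⟩
    obtain ⟨c, rfl⟩ := exists_lam χ
    by_cases h0 : w = 0
    · exact h0 ▸ Submodule.zero_mem _
    · have := hR x z h _ _ _ w h0 hw.1 hw.2 hw'
      obtain rfl : κ = 0 := mul_self_eq_zero.1 (by rw [this]; ring)
      exact hw.2
  have h1 := this 1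
  rw [sa, one_smul, lam_zero] at h1
  rw [sv_split o h, rho_mul, hu, lam_zero, map_smul, h1]
  simp

theorem R1.scal (hR : R1 o ρ) (h2 : (2 : F) ≠ 0) (h : P.B x z = 0) (hc : c ≠ 0) (hu : u ∈ Ew o ρ x c)
    (hu' : u ∈ Sw o ρ x z κ) : u ∈ Ew o ρ z (κ * κ / (4 * c)) := by
  refine mem_of_wt (tv_add o z) (tv_inv h) (fun χ w hw hw' => ?_) ⟨hu, hu'⟩
  obtain ⟨a, rfl⟩ := exists_lam χ
  by_cases h0 : w = 0
  · exact h0 ▸ Submodule.zero_mem _
  · have h4 : (4 : F) ≠ 0 := by rw [show (4 : F) = 2 * 2 by norm_num]; exact mul_ne_zero h2 h2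
    rwa [hR x z h _ _ _ w h0 hw.1 hw.2 hw', mul_div_cancel_left₀ _ (mul_ne_zero h4 hc)]

theorem pr_mem' {G A : Type*} [Group G] [AddCommGroup A] [Fintype A] {ρ : Representation ℂ G M} {x : A → G}
    (h : ∀ a, ρ (x a) v ∈ T) (χ : AddChar A ℂ) : pr ρ x χ v ∈ T := by
  rw [pr_apply]
  exact T.smul_mem _ (T.sum_mem fun a _ => T.smul_mem _ (h a))

theorem R1.tv_mem (hR : R1 o ρ) (h2 : (2 : F) ≠ 0) (h : P.B x z = 0) (hc : c ≠ 0) (hv : v ∈ Ew o ρ x c)
    (hT : ∀ a, ρ (sa o x z a) v ∈ T) (l : F) : ρ (tv o z l) v ∈ T := by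
  rw [← sum_pr (ρ := ρ) (sa_add o h) v, map_sum]
  refine T.sum_mem fun χ _ => ?_
  obtain ⟨κ, rfl⟩ := exists_lam χ
  rw [hR.scal h2 h hc (pr_mem (sa_inv h) hv) (pr_mem_wt (sa_add o h) v) l]
  exact T.smul_mem _ (pr_mem' hT _)

theorem R1.prod {M' : Type*} [AddCommGroup M'] [Module ℂ M'] {ρ' : Representation ℂ (EG P) M'}
    (hR : R1 o ρ) (hR' : R1 o ρ') : R1 o (ρ.prod ρ') := fun d r h a b c v hv h1 h2 h3 => by
  by_cases h0 : v.1 = 0
  · exact hR' d r h a b c v.2 (fun e => hv (Prod.ext h0 e)) (wt_prod.1 h1).2 (wt_prod.1 h2).2 (wt_prod.1 h3).2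
  · exact hR d r h a b c v.1 h0 (wt_prod.1 h1).1 (wt_prod.1 h2).1 (wt_prod.1 h3).1

variable [FiniteDimensional ℂ M]

variable (o ρ) in
/-- A subspace of a weight space invariant under the unipotent radical. -/
structure Good (T : Submodule ℂ M) (d : V) (c : F) : Prop where
  r1 : R1 o ρ
  two : (2 : F) ≠ 0
  dim : 3 ≤ finrank F V
  c0 : c ≠ 0
  d0 : d ≠ 0
  le : T ≤ Ew o ρ d c
  qi : ∀ w, P.B d w = 0 → ∀ a, sv o d w a ∈ stb ρ T
  neg : ng o ∈ stb ρ T

namespace Good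

theorem stab (hT : Good o ρ T d c) (hg : g.1 d = d) : g ∈ stb ρ T := by
  obtain ⟨f, h⟩ := o.exists_pair hT.d0
  have h1 : P.B d (g.1 f) = P.B d f := by conv_lhs => rw [← hg, EG_B]
  obtain ⟨a, e, h2, -, h3⟩ := exists_eu_apply_eq (o.mem (P.q d)) (o.mem (P.q (g.1 f) - P.q f)) h1
    (by rw [h1, h.hdf]; exact one_ne_zero)
  rw [o.eu, ← sv_apply o h2] at h3
  have hL : Lev d f (sv o d _ e * g) 1 :=
    Lev.of_fix (by rw [EG_mul_apply, hg, sv_fix o h2]) (by rw [EG_mul_apply, h3])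
  have h4 : hL.rho ∈ EG (Pw P d f) := (o.pw h).isom_le ⟨fun x y => by
    rw [Pw_B, Pw_B, hL.rho_apply, hL.rho_apply, inv_one, one_smul, one_smul, EG_B], fun _ => o.mem _⟩
  obtain ⟨γ, hγ, e1⟩ := (o.pw h).EG_le_of_zf (H := ((stb ρ T).comap (ext h)).map (EG _).subtype)
    (by have := h.finrank_W; have := hT.dim; omega) (fun r l _ =>
      ⟨_, ⟨tv (o.pw h) r l, fun v hv => by
        rw [show ext h (tv (o.pw h) r l) = tv o r l from (congrArg _ (tv_tr _ r l)).trans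
          ((ext_tr h (o.mem _) ⟨l, o.mem l⟩).trans (tv_tr o r l).symm)]
        exact hT.r1.tv_mem hT.two (W_d r) hT.c0 (hT.le hv) (fun a => hT.qi _ (perp_smul (W_d r) a) 0 v hv) l,
        rfl⟩, euG_apply_sv (o.pw h) (map_zero _) l⟩) h4
  have e2 : ext h γ = sv o d _ e * g := h.EG_ext ((ext_d h γ).trans (by rw [hL.gd, one_smul]))
    ((ext_f h γ).trans (by rw [EG_mul_apply, h3])) fun w => by
      rw [ext_W, show γ.1 = hL.rho from e1, hL.rho_apply, inv_one, one_smul]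
  exact ((stb ρ T).mul_mem_cancel_left (hT.qi _ h2 e)).1 (e2 ▸ hγ)

theorem stab' (hT : Good o ρ T d c) {a : F} (ha : a * a = 1) (hg : g.1 (a • d) = d) : g ∈ stb ρ T := by
  rcases mul_self_eq_one_iff.1 ha with rfl | rfl
  · exact hT.stab (by rwa [one_smul] at hg)
  · exact ((stb ρ T).mul_mem_cancel_right hT.neg).1 (hT.stab (by rw [EG_mul_apply, ng_apply, ← neg_one_smul F, hg]))

theorem red (hg : g.1 x = d) (hu : u ∈ Ew o ρ x κ) (h : κ = c → ρ g u ∈ T) :
    pr ρ (tv o d) (lam c) (ρ g u) ∈ T := by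
  rw [pr_of_mem (Ew_conj hg hu)]
  split_ifs with e
  · exact h (lam_inj e).symm
  · exact T.zero_mem

theorem perp (hT : Good o ρ T d c) (hg : P.B d (g.1 d) = 0) (hv : v ∈ T) :
    pr ρ (tv o d) (lam c) (ρ g v) ∈ T := by
  obtain ⟨x, hx⟩ : ∃ x, g.1 x = d := ⟨_, EG_apply_inv g d⟩
  have h : P.B d x = 0 := by rw [← EG_B g, hx, o.skew, hg, neg_zero]
  have hc := hT.c0
  have h2 := hT.two
  by_cases hd : x ∈ F ∙ d
  · obtain ⟨a, rfl⟩ := Submodule.mem_span_singleton.1 hd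
    exact red hx (Ew_smul a (hT.le hv)) fun e => hT.stab' (mul_left_cancel₀ hc (by rw [e, mul_one])) hx v hv
  refine mem_of_wt (N' := T.comap (pr ρ (tv o d) (lam c) ∘ₗ ρ g)) (sa_add o h)
    (fun a => hT.qi _ (perp_smul h a) 0) (fun χ u hu hu' => ?_) hv
  obtain ⟨κ, rfl⟩ := exists_lam χ
  have h3 := hT.r1.scal h2 h hc (hT.le hu) hu'
  refine red hx h3 fun e => ?_
  rw [e] at h3
  have h4 : (4 : F) ≠ 0 := by rw [show (4 : F) = 2 * 2 by norm_num]; exact mul_ne_zero h2 h2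
  obtain ⟨a, ha, ha'⟩ : ∃ a : F, a * a = 1 ∧ κ * a = -(2 * c) :=
    ⟨-κ / (2 * c), by field_simp at e ⊢; linear_combination e, by field_simp at e ⊢; linear_combination -e⟩
  have h5 : u ∈ Ew o ρ (x + a • d) 0 := fun l => by
    rw [tv_shift o h, rho_mul, rho_mul, h3, map_smul, hu', map_smul, map_smul, hT.le hu, smul_smul, smul_smul]
    simp only [lam_apply, ← AddChar.map_add_eq_mul]
    congr 2
    linear_combination c * l * ha + l * ha'
  obtain ⟨w, hw, hw'⟩ := exists_perp_ne o.nd (U := F ∙ (x + a • d)) (x := d) (fun hd' => by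
    obtain ⟨b, hb⟩ := Submodule.mem_span_singleton.1 hd'
    have hb0 : b ≠ 0 := by rintro rfl; exact hT.d0 (by rw [← hb, zero_smul])
    refine hd (Submodule.mem_span_singleton.2 ⟨b⁻¹ - a, ?_⟩)
    rw [sub_smul]
    nth_rw 1 [← hb]
    rw [inv_smul_smul₀ hb0, add_sub_cancel_right]) a
  have h6 := hw _ (Submodule.mem_span_singleton_self _)
  have h7 : (g * sv o (x + a • d) w 0).1 (-a • d) = d := by
    rw [EG_mul_apply, sv_apply o h6]
    refine (congrArg g.1 ?_).trans hx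
    simp only [map_smul, map_add, LinearMap.add_apply, LinearMap.smul_apply, o.skew d w, hw', o.skew d x, h,
      o.alt, smul_eq_mul]
    linear_combination (norm := module) ha • x + (a * ha) • d
  have h8 := hT.stab' (by rw [neg_mul_neg, ha]) h7 u hu
  rwa [rho_mul, hT.r1.fix h6 h5] at h8

theorem big (hT : Good o ρ T d c) (hz : P.B d z ≠ 0) (l : F) (hv : v ∈ T) :
    pr ρ (tv o d) (lam c) (ρ (tv o z l) v) ∈ T := by
  have hc := hT.c0
  have h2 := hT.two
  have h4 : (4 : F) ≠ 0 := by rw [show (4 : F) = 2 * 2 by norm_num]; exact mul_ne_zero h2 h2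
  have key : ∀ y : Wp P d ((P.B d z)⁻¹ • z), ∀ κ ≠ 0, ∀ u ∈ T, u ∈ Sw o ρ d y κ →
      u ∈ T.comap (pr ρ (tv o d) (lam c) ∘ₗ ρ (tv o z l)) := fun y κ hκ u hu hu' => by
    have h5 : P.B y z = 0 := by simpa [hz] using W_f' y
    refine hT.r1.tv_mem (T := T.comap (pr ρ (tv o d) (lam c))) h2 h5
      (div_ne_zero (mul_ne_zero hκ hκ) (mul_ne_zero h4 hc)) (hT.r1.scal h2 (W_d y) hc (hT.le hu) hu')
      (fun a => hT.perp ?_ hu) l
    simp [sa, sv_apply o (perp_smul h5 a), o.alt, W_d, W_d']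
  obtain ⟨y, y', hy⟩ := o.exists_W (pair_of_ne (o.mem _) (o.mem _) hz) hT.dim
  have hq : ∀ (y : Wp P d ((P.B d z)⁻¹ • z)) a, ∀ v ∈ T, ρ (sa o d y a) v ∈ T :=
    fun y a => hT.qi _ (perp_smul (W_d y) a) 0
  refine mem_of_wt (N' := T.comap (pr ρ (tv o d) (lam c) ∘ₗ ρ (tv o z l))) (sa_add o (W_d y)) (hq y)
    (fun χ u hu hu' => ?_) hv
  obtain ⟨κ, rfl⟩ := exists_lam χ
  by_cases hκ : κ ≠ 0
  · exact key y κ hκ u hu hu'
  obtain rfl := not_not.1 hκ
  have h6 := key y' 1 one_ne_zero _ (MR.pr_mem (hq y') hu) (pr_mem_wt (sa_add o (W_d y')) u)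
  rw [pr_apply, Submodule.smul_mem_iff _ (inv_ne_zero card_ne), ← Finset.add_sum_erase _ _ (Finset.mem_univ 0),
    x_zero (sa_add o (W_d y')), rho_one, neg_zero, AddChar.map_zero_eq_one, one_smul] at h6
  refine (Submodule.add_mem_iff_left _ (Submodule.sum_mem _ fun a ha => Submodule.smul_mem _ _ ?_)).1 h6
  refine key y (c * (2 * a)) (mul_ne_zero hc (mul_ne_zero h2 (Finset.ne_of_mem_erase ha))) _ (hq y' a u hu)
    fun b => ?_
  rw [sa, sa, sv_shift (perp_smul (W_d y) b) (perp_smul (W_d y') a) (hT.le hu) (hu' b)]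
  simp only [lam_apply, ← AddChar.map_add_eq_mul, map_smul, LinearMap.smul_apply, hy, smul_eq_mul]
  congr 2
  ring

theorem pr_mem (hT : Good o ρ T d c) (g : EG P) (hv : v ∈ T) : pr ρ (tv o d) (lam c) (ρ g v) ∈ T := by
  by_cases hg : P.B d (g.1 d) = 0
  · exact hT.perp hg hv
  obtain ⟨x, hx⟩ : ∃ x, g.1 x = d := ⟨_, EG_apply_inv g d⟩
  have h : P.B d (x - d) ≠ 0 := by
    rwa [map_sub, o.alt, sub_zero, ← EG_B g, hx, o.skew, neg_ne_zero]
  have h1 : (g * tv o (x - d) (P.B (x - d) d)⁻¹).1 d = d := by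
    rw [EG_mul_apply, tv_apply, inv_mul_cancel₀ (B_ne_zero_symm h), one_smul, add_sub_cancel, hx]
  have h2 : g = g * tv o (x - d) (P.B (x - d) d)⁻¹ * tv o (x - d) (-(P.B (x - d) d)⁻¹) := by
    rw [mul_assoc, ← tv_add, add_neg_cancel, x_zero (tv_add o _), mul_one]
  rw [h2, rho_mul, ← pr_comm (T := ρ (g * tv o (x - d) (P.B (x - d) d)⁻¹)) fun a v => by
    rw [← rho_mul, ← rho_mul, tv_comm o h1]]
  exact hT.stab h1 _ (hT.big h _ hv)

end Good

theorem exists_lag (o : Symp P) {U : Submodule F V} (hU : U ≤ perp P U) :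
    ∃ X : Submodule F V, U ≤ X ∧ perp P X = X := by
  obtain ⟨X, h1, h2⟩ := exists_maximal_ge_of_wellFoundedGT (fun X : Submodule F V => X ≤ perp P X) U hU
  refine ⟨X, h1, le_antisymm (fun y hy => h2.2 (y := X ⊔ F ∙ y) ?_ le_sup_left
    (Submodule.mem_sup_right (Submodule.mem_span_singleton_self y))) h2.1⟩
  have h3 : (F ∙ y) ≤ perp P X := (Submodule.span_singleton_le_iff_mem _ _).2 hy
  refine le_of_le_of_eq ?_ (perp_sup _ _).symm
  exact sup_le (le_inf h2.1 (le_perp_comm h3))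
    (le_inf h3 ((Submodule.span_singleton_le_iff_mem _ _).2 (mem_perp_singleton.2 (o.alt y))))

variable {X : Submodule F V}

theorem xs_add (o : Symp P) (hX : X ≤ perp P X) (hd : d ∈ X) (a b : X) :
    sv o d (a + b : X) 0 = sv o d a 0 * sv o d b 0 := by
  simp [sv_mul o (hX a.2 d hd) (hX b.2 d hd), hX b.2 a a.2]

theorem core [Finite V] (hR : R1 o ρ) (h2 : (2 : F) ≠ 0) (hn : 3 ≤ finrank F V) (hc : c ≠ 0) (hd : d ≠ 0)
    {ε : ℂ} (hε : ∀ v, ρ (ng o) v = ε • v) (hX : perp P X = X) (hdX : d ∈ X) {η : AddChar X ℂ}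
    (hu : u ∈ Ew o ρ d c) (hu' : u ∈ wt ρ (fun y : X => sv o d y 0) η) :
    ∃ N : Submodule ℂ M, (∀ g, ∀ v ∈ N, ρ g v ∈ N) ∧ u ∈ N ∧
      ∀ v ∈ N, v ∈ Ew o ρ d c → v ∈ wt ρ (fun y : X => sv o d y 0) η → v ∈ ℂ ∙ u := by
  have := Fintype.ofFinite X
  let L := (ℂ ∙ u).comap (pr ρ (fun y : X => sv o d y 0) η)
  let T := Ew o ρ d c ⊓ ⨅ (w : V) (_ : P.B d w = 0) (a : F), L.comap (ρ (sv o d w a))
  have hT : ∀ {v}, v ∈ T ↔ v ∈ Ew o ρ d c ∧ ∀ w, P.B d w = 0 → ∀ a, ρ (sv o d w a) v ∈ L := by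
    simp only [T, Submodule.mem_inf, Submodule.mem_iInf, Submodule.mem_comap, implies_true]
  have hG : Good o ρ T d c := ⟨hR, h2, hn, hc, hd, inf_le_left, fun w hw a v hv =>
    hT.2 ⟨Ew_conj (sv_fix o hw a) hv.1, fun w' hw' a' => by
      rw [← rho_mul, sv_mul o hw' hw]
      exact (hT.1 hv).2 _ (by simp [hw, hw']) _⟩, fun v hv => hε v ▸ T.smul_mem _ hv⟩
  have huT : u ∈ T := hT.2 ⟨hu, fun w hw a => by
    by_cases hw' : w ∈ X
    · rw [sv_split o hw, rho_mul, hu, map_smul, hu' ⟨w, hw'⟩]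
      refine L.smul_mem _ (L.smul_mem _ ?_)
      rw [Submodule.mem_comap, pr_self hu']
      exact Submodule.mem_span_singleton_self u
    · obtain ⟨x, hx, hx'⟩ : ∃ x ∈ X, P.B x w ≠ 0 := by
        by_contra! h
        exact hw' (hX.le h)
      have h3 : ρ (sv o d w a) u ∈ wt ρ (fun y : X => sv o d y 0) (η * (psi F).compAddMonoidHom
          ((c * 2) • P.B.flip w ∘ₗ X.subtype).toAddMonoidHom) := fun y => by
        rw [sv_shift (hX.ge y.2 d hdX) hw hu (hu' y)]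
        simp [mul_assoc]
      rw [Submodule.mem_comap, pr_ne h3 fun e => hx' ((mul_eq_zero.1 (eq_zero_of_psi
        (a := c * 2 * P.B x w) fun t => ?_)).resolve_left (mul_ne_zero hc h2))]
      · exact Submodule.zero_mem _
      · have := DFunLike.congr_fun e ⟨t • x, X.smul_mem t hx⟩
        rw [AddChar.mul_apply, left_eq_mul₀ (chi_ne_zero _ _)] at this
        simpa [mul_left_comm] using this⟩
  refine ⟨⨅ g, L.comap (pr ρ (tv o d) (lam c) ∘ₗ ρ g), fun g v hv => ?_, ?_, fun v hv h1 h3 => ?_⟩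
  · simp only [Submodule.mem_iInf, Submodule.mem_comap, LinearMap.comp_apply, ← rho_mul] at hv ⊢
    exact fun g' => hv _
  · refine (Submodule.mem_iInf _).2 fun g => ?_
    have := (hT.1 (hG.pr_mem g huT)).2 0 (map_zero _) 0
    rwa [← tv, x_zero (tv_add o d), rho_one] at this
  · have := (Submodule.mem_iInf _).1 hv 1
    rwa [Submodule.mem_comap, LinearMap.comp_apply, rho_one, pr_self h1, Submodule.mem_comap, pr_self h3] at this

theorem exists_wt_lag [Finite V] (h2 : (2 : F) ≠ 0) (hc : c ≠ 0) (hX : X ≤ perp P X) (hdX : d ∈ X) {e : V}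
    (he : P.B e d = c * 2) (hv : v ∈ Ew o ρ d c) (h0 : v ≠ 0) : ∃ u, u ≠ 0 ∧ u ∈ Ew o ρ d c ∧
      u ∈ wt ρ (fun y : X => sv o d y 0) ((psi F).compAddMonoidHom (P.B e ∘ₗ X.subtype).toAddMonoidHom) := by
  have := Fintype.ofFinite X
  obtain ⟨χ, u, hu, hu0, hu'⟩ := exists_wt (xs_add o hX hdX) (N := Ew o ρ d c)
    (fun a _ => Ew_conj (sv_fix o (hX a.2 d hdX) 0)) hv h0
  obtain ⟨θ, hθ⟩ := exists_dual (F := F) χ
  obtain ⟨φ, hφ⟩ := θ.exists_extend
  obtain ⟨w, hw⟩ := exists_repr_dual P.σσ P.B o.nd φ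
  have h3 : ∀ y : X, P.B w y = θ y := fun y => (hw y).trans (LinearMap.congr_fun hφ y)
  have h4 : P.B w d = c * 2 := sub_eq_zero.1 (eq_zero_of_psi fun t => by
    have h5 := hu' ⟨t • d, X.smul_mem t hdX⟩
    dsimp only at h5
    rw [sv_self, hu, hθ, ← h3, lam_apply] at h5
    rw [mul_sub, AddChar.map_sub_eq_div, div_eq_one_iff_eq (chi_ne_zero _ _)]
    have h6 := smul_left_injective ℂ hu0 h5
    simp only [map_smul, smul_eq_mul] at h6
    rw [← h6]
    congr 1
    ring)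
  have h5 : P.B d ((c * 2)⁻¹ • (w - e)) = 0 := by simp [o.skew w d, o.skew e d, h4, he]
  refine ⟨_, rho_ne_zero ρ (sv o d _ 0) hu0, Ew_conj (sv_fix o h5 0) hu, fun y => ?_⟩
  rw [sv_shift (hX y.2 d hdX) h5 hu (hu' y), hθ, ← h3, ← AddChar.map_add_eq_mul]
  simp only [AddChar.compAddMonoidHom_apply, LinearMap.toAddMonoidHom_coe, LinearMap.comp_apply,
    Submodule.subtype_apply, map_smul, map_sub, smul_eq_mul, o.skew w y, o.skew e y]
  congr 2
  field_simp
  ring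

theorem char_eq_of_r1 [Finite V] {M' : Type*} [AddCommGroup M'] [Module ℂ M'] [FiniteDimensional ℂ M']
    {ρ' : Representation ℂ (EG P) M'} (hi : ρ.IsIrreducible) (hi' : ρ'.IsIrreducible) (hR : R1 o ρ)
    (hR' : R1 o ρ') (h2 : (2 : F) ≠ 0) (hn : 3 ≤ finrank F V) (hc : c ≠ 0) (hd : d ≠ 0) {ε : ℂ}
    (hε : ∀ v, ρ (ng o) v = ε • v) (hε' : ∀ v, ρ' (ng o) v = ε • v) (hv : v ∈ Ew o ρ d c) (h0 : v ≠ 0)
    {v' : M'} (hv' : v' ∈ Ew o ρ' d c) (h0' : v' ≠ 0) : ρ.character = ρ'.character := by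
  obtain ⟨X, h1, hX⟩ := exists_lag o (U := F ∙ d)
    ((Submodule.span_singleton_le_iff_mem _ _).2 (mem_perp_singleton.2 (o.alt d)))
  have hdX := h1 (Submodule.mem_span_singleton_self d)
  obtain ⟨e, he⟩ := exists_B_eq o.nd hd (-(c * 2))
  rw [o.skew, neg_inj] at he
  obtain ⟨u, u0, u1, u2⟩ := exists_wt_lag h2 hc hX.ge hdX he hv h0
  obtain ⟨u', u0', u1', u2'⟩ := exists_wt_lag h2 hc hX.ge hdX he hv' h0'
  obtain ⟨N, n1, n2, n3⟩ := core (u := (u, u')) (hR.prod hR') h2 hn hc hd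
    (fun v => Prod.ext (hε v.1) (hε' v.2)) hX hdX (wt_prod.2 ⟨u1, u1'⟩) (wt_prod.2 ⟨u2, u2'⟩)
  refine char_eq_of_graph hi hi' N n1 u0 u0' n2 fun h => ?_
  obtain ⟨a, ha⟩ := Submodule.mem_span_singleton.1
    (n3 _ h (wt_prod.2 ⟨u1, Submodule.zero_mem _⟩) (wt_prod.2 ⟨u2, Submodule.zero_mem _⟩))
  obtain rfl : a = 0 := (smul_eq_zero.1 (congrArg Prod.snd ha)).resolve_right u0'
  exact u0 (by simpa using (congrArg Prod.fst ha).symm)

theorem force_eq_spOddA : True := by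
  have := @stb.eq_1.{0,0}
  have := @stb.eq_def.{0,0}
  have := @lam.eq_1.{0}
  have := @lam.eq_def.{0}
  have := @sv.eq_1.{0,0}
  have := @sv.eq_def.{0,0}
  have := @tv.eq_1.{0,0}
  have := @tv.eq_def.{0,0}
  have := @sa.eq_1.{0,0}
  have := @sa.eq_def.{0,0}
  have := @ng.eq_1.{0,0}
  have := @ng.eq_def.{0,0}
  have := @Ew.eq_1.{0,0,0}
  have := @Ew.eq_def.{0,0,0}
  have := @Sw.eq_1.{0,0,0}
  have := @Sw.eq_def.{0,0,0}
  have := @R1.eq_1.{0,0,0}
  have := @R1.eq_def.{0,0,0}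
  trivial

end H20.MR
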