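import Cfsg.Agent.Lib.MinRep.Basic
import Cfsg.Agent.Lib.MinDeg.HermD

/-! Transvection groups acting in complex representations of classical groups. -/

set_option autoImplicit false
set_option linter.unusedSectionVars false

namespace H20.MR

open Module H28 H97 H20.MD
open scoped Classical

variable {F V : Type*} [Field F] [AddCommGroup V] [Module F V] [FiniteDimensional F V]
  {σ : F →+* F} {P : PQ F V σ} {d f : V}

/-- The transvections with centre `d`. -/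
noncomputable def tr (hd : P.q d ∈ P.Λ) (l : P.Λ) : EG P := euG hd (map_zero _) (valid_zero l.2)

theorem tr_eu (hd : P.q d ∈ P.Λ) (l : P.Λ) (x : V) : (tr hd l).1 x = eu P d 0 l x := euG_apply _ _ _ x

theorem tr_apply (hd : P.q d ∈ P.Λ) (l : P.Λ) (x : V) :
    (tr hd l).1 x = x - (P.ε * l * P.B d x) • d := by rw [tr_eu, eu_tr]

theorem tr_add (hd : P.q d ∈ P.Λ) (l l' : P.Λ) : tr hd (l + l') = tr hd l * tr hd l' :=
  EG_ext fun x => by
    simp only [EG_mul_apply, tr_apply, map_sub, map_smul, P.self_eq_zero hd, AddSubgroup.coe_add]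
    module

theorem tr_conj (hd : P.q d ∈ P.Λ) {e : V} (he : P.q e ∈ P.Λ) {g : EG P} {a : F} (hg : g.1 d = a • e)
    {l l' : P.Λ} (hl : (l' : F) = σ a * a * l) : tr he l' * g = g * tr hd l :=
  EG_ext fun x => by
    have h1 := EG_B g d x
    rw [hg, B_smul_left] at h1
    simp only [EG_mul_apply, tr_apply, map_sub, map_smul, hg, hl, ← h1]
    module

theorem tr_conj' (hd : P.q d ∈ P.Λ) {e : V} (he : P.q e ∈ P.Λ) {g : EG P} (hg : g.1 d = e) (l : P.Λ) :
    tr he l * g = g * tr hd l := tr_conj hd he (a := 1) (by rw [hg, one_smul]) (by simp)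

theorem tr_comm (hd : P.q d ∈ P.Λ) {g : EG P} (hg : g.1 d = d) (l : P.Λ) :
    tr hd l * g = g * tr hd l := tr_conj' hd hd hg l

theorem tr_smul (hd : P.q d ∈ P.Λ) {a : F} (he : P.q (a • d) ∈ P.Λ) {l l' : P.Λ}
    (hl : (l' : F) = σ a * a * l) : tr hd l' = tr he l := by
  simpa using tr_conj he hd (g := 1) (a := a) rfl hl

theorem tr_fix (hd : P.q d ∈ P.Λ) (l : P.Λ) {x : V} (hx : P.B d x = 0) : (tr hd l).1 x = x := by
  simp [tr_apply, hx]

theorem tr_zero_left (hd : P.q 0 ∈ P.Λ) (l : P.Λ) : tr hd l = 1 := EG_ext fun x => by simp [tr_apply]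

theorem toG_cen (h : Pair P d f) (l : P.Λ) : h.toG (Heis.cen P d f l.2) = tr h.hd l :=
  EG_ext fun x => by rw [h.toG_apply, tr_eu]; rfl

theorem toG_d (h : Pair P d f) (x : Heis P d f) : (h.toG x).1 d = d := by
  rw [h.toG_apply, eu_fix _ h.dd (W_d' _)]

/-- The extension of isometries of the perpendicular space of a hyperbolic pair. -/
noncomputable def ext (h : Pair P d f) : EG (Pw P d f) →* EG P :=
  MonoidHom.mk' (fun γ => (exists_ext γ.2).choose) fun a b => by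
    have ha := (exists_ext a.2).choose_spec
    have hb := (exists_ext b.2).choose_spec
    have hab := (exists_ext (a * b).2).choose_spec
    refine h.EG_ext ?_ ?_ fun w => ?_
    · rw [EG_mul_apply, hab.1.gd, hb.1.gd, one_smul, ha.1.gd, one_smul]
    · rw [EG_mul_apply, hab.1.gf, hb.1.gf, map_one, inv_one, one_smul, ha.1.gf, map_one, inv_one, one_smul]
    · rw [EG_mul_apply, hab.2, hb.2, ha.2]; rfl

theorem ext_lev (h : Pair P d f) (γ : EG (Pw P d f)) : Lev d f (ext h γ) 1 :=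
  (exists_ext γ.2).choose_spec.1

theorem ext_d (h : Pair P d f) (γ : EG (Pw P d f)) : (ext h γ).1 d = d := by
  rw [(ext_lev h γ).gd, one_smul]

theorem ext_f (h : Pair P d f) (γ : EG (Pw P d f)) : (ext h γ).1 f = f := by
  rw [(ext_lev h γ).gf, map_one, inv_one, one_smul]

theorem ext_W (h : Pair P d f) (γ : EG (Pw P d f)) (y : Wp P d f) : (ext h γ).1 y = (γ.1 y : V) :=
  (exists_ext γ.2).choose_spec.2 y

theorem ext_tr (h : Pair P d f) {r : Wp P d f} (hr : P.q r ∈ P.Λ) (l : P.Λ) :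
    ext h (tr (P := Pw P d f) (d := r) hr l) = tr hr l :=
  h.EG_ext ((ext_d h _).trans (tr_fix hr l (W_d' r)).symm) ((ext_f h _).trans (tr_fix hr l (W_f' r)).symm)
    fun w => (ext_W h _ w).trans (by
      rw [tr_eu hr, show (tr (P := Pw P d f) (d := r) hr l).1 w = _ from tr_eu (P := Pw P d f) hr l w,
        coe_eu]; rfl)

variable {M : Type*} [AddCommGroup M] [Module ℂ M]

/-- Some transvection acts non-trivially. -/
def NT (ρ : Representation ℂ (EG P) M) : Prop := ∃ d, ∃ hd : P.q d ∈ P.Λ, ∃ l v, ρ (tr hd l) v ≠ v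

variable {ρ : Representation ℂ (EG P) M}

theorem ne_zero_of_nt {hd : P.q d ∈ P.Λ} {l : P.Λ} {v : M} (h : ρ (tr hd l) v ≠ v) : d ≠ 0 := by
  rintro rfl
  exact h (by rw [tr_zero_left, rho_one])

theorem nt_move {hd : P.q d ∈ P.Λ} {l : P.Λ} {v : M} (h : ρ (tr hd l) v ≠ v) {e : V} (he : P.q e ∈ P.Λ)
    {g : EG P} (hg : g.1 d = e) : ρ (tr he l) (ρ g v) ≠ ρ g v := fun e1 => by
  rw [← rho_mul, tr_conj' hd he hg, rho_mul] at e1
  exact h (rho_injective ρ g e1)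

theorem fix_inv (hd : P.q d ∈ P.Λ) {χ : AddChar P.Λ ℂ} {g : EG P} (hg : g.1 d = d) :
    ∀ v ∈ wt ρ (tr hd) χ, ρ g v ∈ wt ρ (tr hd) χ := fun _ => mem_wt_comm (tr_comm hd hg)

theorem fix_inv' (hd : P.q d ∈ P.Λ) {g : EG P} {a : F} (ha : a ≠ 0) (hg : g.1 d = a • d) :
    ∀ v ∈ wt ρ (tr hd) 1, ρ g v ∈ wt ρ (tr hd) 1 := fun _ =>
  mem_wt_conj (fun l => ⟨σ a⁻¹ * a⁻¹ * l, P.norm_mem _ _ l.2⟩)
    (fun l => tr_conj hd hd hg (by have := sigma_ne (σ := σ) ha; simp; field_simp)) fun _ => rfl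

variable (ρ) in
/-- The action of the Levi factor on the fixed space of the transvections with centre `d`. -/
noncomputable def sub (h : Pair P d f) : Representation ℂ (EG (Pw P d f)) (wt ρ (tr h.hd) 1) :=
  res ρ (ext h) _ fun γ => fix_inv h.hd (ext_d h γ)

theorem nt_sub (h : Pair P d f) {r : Wp P d f} (hr : P.q r ∈ P.Λ) {l : P.Λ} {v : M}
    (hv : v ∈ wt ρ (tr h.hd) 1) (hl : ρ (tr hr l) v ≠ v) : NT (sub ρ h) :=
  ⟨r, hr, l, ⟨v, hv⟩, fun e => hl (by
    rw [← ext_tr h hr l]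
    exact congrArg Subtype.val e)⟩

variable [Finite F] [FiniteDimensional ℂ M]

noncomputable instance : Fintype P.Λ := Fintype.ofFinite _

/-- All non-trivial characters of the transvection group occur equally often. -/
theorem step (hΛ : ∀ s, σ s = s → ∀ l ∈ P.Λ, s * l ∈ P.Λ) (hd : P.q d ∈ P.Λ) {N : Submodule ℂ M}
    (hN : ∀ l, ∀ v ∈ N, ρ (tr hd l) v ∈ N) (S : Finset F) (hS : ∀ s ∈ S, ∃ (g : EG P) (a : F), a ≠ 0 ∧
      g.1 d = a • d ∧ σ a * a = s ∧ ∀ v ∈ N, ρ g⁻¹ v ∈ N) {χ : AddChar P.Λ ℂ} (hχ : χ ≠ 1) :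
    finrank ℂ ↥(N ⊓ wt ρ (tr hd) 1) + S.card * finrank ℂ ↥(N ⊓ wt ρ (tr hd) χ) ≤ finrank ℂ N := by
  have hfix : ∀ s ∈ S, σ s = s ∧ s ≠ 0 := fun s hs => by
    obtain ⟨g, a, h0, -, rfl, -⟩ := hS s hs
    exact ⟨by rw [map_mul, P.σσ, mul_comm], mul_ne_zero (sigma_ne h0) h0⟩
  obtain ⟨l0, hl0⟩ : ∃ l, χ l ≠ 1 := by
    by_contra h
    push Not at h
    exact hχ (AddChar.ext _ _ h)
  let c : S → AddChar P.Λ ℂ := fun s =>
    ⟨fun l => χ ⟨s * l, hΛ s (hfix s s.2).1 l l.2⟩, by rw [← χ.map_zero_eq_one]; congr 1; ext; simp, fun a b => by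
      rw [← AddChar.map_add_eq_mul]; congr 1; ext; simp [mul_add]⟩
  have hc : ∀ s l, c s l = χ ⟨s * l, hΛ s (hfix s s.2).1 l l.2⟩ := fun _ _ => rfl
  have key : ∀ (t : F) (_ : σ t = t) (_ : t ≠ 0), ∃ l : P.Λ, t * l = l0 := fun t h1 h2 =>
    ⟨⟨t⁻¹ * l0, hΛ _ (by rw [map_inv₀, h1]) _ l0.2⟩, by simp [h2]⟩
  rw [← Fintype.card_coe S]
  refine one_add_le' (tr_add hd) hN Finset.univ c (fun s _ s' _ e => ?_) (fun s _ e => ?_) fun s _ => ?_
  · by_contra hne
    obtain ⟨l, hl⟩ := key (s - s') (by rw [map_sub, (hfix s s.2).1, (hfix s' s'.2).1])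
      (sub_ne_zero.2 fun e => hne (Subtype.ext e))
    have h1 : c s l = c s' l := by rw [e]
    have h2 : l0 = ⟨s * l, hΛ s (hfix s s.2).1 l l.2⟩ - ⟨s' * l, hΛ s' (hfix s' s'.2).1 l l.2⟩ :=
      Subtype.ext (by rw [← hl]; simp [sub_mul])
    rw [hc, hc] at h1
    exact hl0 (by rw [h2, AddChar.map_sub_eq_div, h1, div_self (chi_ne_zero _ _)])
  · obtain ⟨l, hl⟩ := key s (hfix s s.2).1 (hfix s s.2).2
    have h1 : c s l = 1 := by rw [e]; rfl
    rw [hc] at h1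
    exact hl0 (by rw [← h1]; congr 1; exact Subtype.ext hl.symm)
  · obtain ⟨g, a, -, h1, h2, h3⟩ := hS s s.2
    refine finrank_le_of_maps ρ g⁻¹ fun v hv => ⟨h3 v hv.1, mem_wt_conj _ (fun l => ?_) (hc s) hv.2⟩
    rw [eq_inv_mul_iff_mul_eq, ← mul_assoc, mul_inv_eq_iff_eq_mul]
    exact (tr_conj hd hd h1 (by rw [h2])).symm

variable [Finite V]

/-- The bound for the representations of the Heisenberg group. -/
theorem heis_bound (hP : P.B.SeparatingLeft) (hΛ : ∀ l ∈ P.Λ, ∃ t, l = t - P.ε * σ t) (h : Pair P d f)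
    {χ : AddChar P.Λ ℂ} (hχ : χ ≠ 1) {N : Submodule ℂ M} (hN : ∀ x, ∀ v ∈ N, ρ (h.toG x) v ∈ N)
    (hN' : N ≤ wt ρ (tr h.hd) χ) {v : M} (hv : v ∈ N) (h0 : v ≠ 0) :
    Nat.card (Wp P d f) ≤ finrank ℂ N * finrank ℂ N := by
  have := Fintype.ofFinite (Wp P d f)
  obtain ⟨l, hl⟩ : ∃ l, χ l ≠ 1 := by
    by_contra h
    push Not at h
    exact hχ (AddChar.ext _ _ h)
  rw [Nat.card_eq_fintype_card]
  let T : Wp P d f → Heis P d f := fun w => ⟨w, P.q w, by simp⟩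
  refine card_le_sq (fun w => h.toG (T w)) h.toG.range (by rintro _ ⟨x, rfl⟩; exact hN x)
    (fun w => ⟨_, rfl⟩) hv h0 fun w w' hw => ?_
  set x := (T w)⁻¹ * T w' with hx
  have hxw : x.w ≠ 0 := fun e => hw (by
    have : -w + w' = 0 := e
    exact neg_add_eq_zero.1 this)
  obtain ⟨t, ht⟩ := hΛ l l.2
  obtain ⟨y, hy⟩ := exists_B_eq (h.nd hP) hxw (-t)
  rw [Pw_B] at hy
  refine ⟨h.toG (T y), ⟨_, rfl⟩, χ l, hl, fun u hu => ?_⟩
  have e : T y * x * (T y)⁻¹ = Heis.cen P d f l.2 * x := by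
    refine Heis.ext (by simp [Heis.mul_w, Heis.inv_w, Heis.cen]) ?_
    have h1 := P.symm x.w y
    simp only [Heis.mul_c, Heis.inv_c, Heis.mul_w, Heis.inv_w, Heis.cen, T, Submodule.coe_add,
      Submodule.coe_neg, map_add, map_neg, LinearMap.add_apply, hy, h1, Submodule.coe_zero, map_zero,
      LinearMap.zero_apply]
    linear_combination -ht
  rw [← map_inv, ← map_inv, ← map_mul, ← map_mul, ← map_mul, ← hx, e, map_mul, rho_mul, toG_cen]
  exact hN' (hN x u hu) l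

theorem force_eq_tr : True := by
  have := @tr.eq_1.{0,0}
  have := @tr.eq_def.{0,0}
  have := @ext.eq_1.{0,0}
  have := @ext.eq_def.{0,0}
  have := @NT.eq_1.{0,0,0}
  have := @NT.eq_def.{0,0,0}
  have := @sub.eq_1.{0,0,0}
  have := @sub.eq_def.{0,0,0}
  trivial

end H20.MR
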